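/-
Rank certificate for the Sylow three-subgroup on the twenty-dimensional module.
-/
import Cfsg.Agent.H61.U6M.Code
import Cfsg.Agent.H18.S3338.BoundData

set_option autoImplicit false

namespace H18.U6M

open H61.U6M

/-- A part of the span of a list of vectors, of size at most `2 ^ k`. -/
def gspan (k : ℕ) (vs : List ℕ) : List ℕ :=
  vs.foldl (fun s v =>
    if (decide (2 ^ k ≤ s.length) || s.contains v) then s else s ++ s.map (v ^^^ ·)) [0]

/-- The images of the unit vectors under `1 + f`. -/
def imgs (f : ℕ → ℕ) : List ℕ := (List.range 20).map fun i => f (2 ^ i) ^^^ 2 ^ i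

/-- `1 + f` is zero or has rank at least `k`. -/
def rankOK (k : ℕ) (f : ℕ → ℕ) : Bool :=
  (imgs f).all (· == 0) || decide (2 ^ k ≤ (gspan k (imgs f)).length)

/-- The check for a diagonal element times all nine permutations. -/
def rowOK (cd : List ℕ) : Bool := ptab.all fun M => rankOK 7 fun x => app cd (app M x)

theorem block0 : dtab0.all rowOK = true := by decide +kernel

theorem block1 : dtab1.all rowOK = true := by decide +kernel

theorem block2 : dtab2.all rowOK = true := by decide +kernel

theorem block3 : dtab3.all rowOK = true := by decide +kernel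

theorem block4 : dtab4.all rowOK = true := by decide +kernel

theorem block5 : dtab5.all rowOK = true := by decide +kernel

theorem block6 : dtab6.all rowOK = true := by decide +kernel

theorem block7 : dtab7.all rowOK = true := by decide +kernel

theorem block8 : dtab8.all rowOK = true := by decide +kernel

theorem rows_ok : ∀ l ∈ dtab, ∀ cd ∈ l, rowOK cd = true := by
  intro l hl cd hcd
  simp only [dtab, List.mem_cons, List.not_mem_nil, or_false] at hl
  rcases hl with rfl | rfl | rfl | rfl | rfl | rfl | rfl | rfl | rfl
  exacts [List.all_eq_true.1 block0 _ hcd, List.all_eq_true.1 block1 _ hcd,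
    List.all_eq_true.1 block2 _ hcd, List.all_eq_true.1 block3 _ hcd,
    List.all_eq_true.1 block4 _ hcd, List.all_eq_true.1 block5 _ hcd,
    List.all_eq_true.1 block6 _ hcd, List.all_eq_true.1 block7 _ hcd,
    List.all_eq_true.1 block8 _ hcd]

end H18.U6M
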