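/-
Fixed spaces of elements of odd prime order on the twenty-dimensional module of `PSU(6,2)`.
-/
import Cfsg.Agent.H61.U6M.Fix
import Cfsg.Agent.H18.S3338.BoundCheck
import Cfsg.Agent.H72.U6.Frames

set_option autoImplicit false
set_option linter.unusedSectionVars false

open Matrix Cfsg H50 H61.U6M

namespace H18.U6M

/-- The words of the permutation part. -/
def pws : Fin 9 → List (Fin 5)
  | 0 => []
  | 1 => [0, 1]
  | 2 => [1, 0]
  | 3 => [3, 4]
  | 4 => [4, 3]
  | 5 => [0, 1, 3, 4]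
  | 6 => [0, 1, 4, 3]
  | 7 => [1, 0, 3, 4]
  | 8 => [1, 0, 4, 3]

/-- The permutation of a word. -/
def wperm : List (Fin 5) → Equiv.Perm (Fin 6)
  | [] => 1
  | i :: w => adj i * wperm w

/-- The permutation part. -/
def pp (k : Fin 9) : Equiv.Perm (Fin 6) := wperm (pws k)

theorem elG_perm : ∀ w : List (Fin 5),
    elG (w.map (Fin.castLE (by norm_num : 5 ≤ 8))) = P (wperm w)
  | [] => P_one.symm
  | i :: w => by
    show gel _ * elG _ = _
    rw [elG_perm w, show gel (Fin.castLE (by norm_num : 5 ≤ 8) i) = P (adj i) by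
      fin_cases i <;> rfl, wperm, P_mul]

theorem pp_mul : ∀ i j : Fin 9, ∃ k : Fin 9, pp i * pp j = pp k := by decide +kernel

theorem pp_inj : ∀ i j : Fin 9, pp i = pp j → i = j := by decide +kernel

theorem wp_inj : ∀ x y : ZMod 3, wp x = wp y → x = y := by decide +kernel

theorem wp_ne : ∀ x : ZMod 3, wp x ≠ 0 := by decide +kernel

/-- The Sylow three-subgroup of monomial elements. -/
noncomputable def mono : Subgroup (SU 6 K 2) :=
  Subgroup.closure (Set.range fun x : Cv × Fin 9 => D x.1 * P (pp x.2))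

theorem mem_mono {g : SU 6 K 2} (hg : g ∈ mono) : ∃ a, ∃ k : Fin 9, g = D a * P (pp k) := by
  have hgen : ∀ x : Cv × Fin 9, D x.1 * P (pp x.2) ∈
      {g | ∃ a, ∃ k : Fin 9, g = D a * P (pp k)} := fun x => ⟨x.1, x.2, rfl⟩
  have hone : (1 : SU 6 K 2) ∈ {g | ∃ a, ∃ k : Fin 9, g = D a * P (pp k)} := by
    refine ⟨0, 0, ?_⟩
    rw [show pp 0 = 1 from rfl, P_one, mul_one]
    have h0 : D (0 : Cv) * D 0 = D 0 := by rw [← D_add, add_zero]
    exact (mul_eq_left.1 h0).symm
  have hmul : ∀ x y, x ∈ {g | ∃ a, ∃ k : Fin 9, g = D a * P (pp k)} →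
      y ∈ {g | ∃ a, ∃ k : Fin 9, g = D a * P (pp k)} →
      x * y ∈ {g | ∃ a, ∃ k : Fin 9, g = D a * P (pp k)} := by
    rintro x y ⟨a, i, rfl⟩ ⟨b, j, rfl⟩
    obtain ⟨k, hk⟩ := pp_mul i j
    refine ⟨a + permA (pp i) b, k, ?_⟩
    rw [D_add, ← hk, P_mul, mul_assoc, ← mul_assoc (P (pp i)), P_D]
    simp only [mul_assoc]
  induction hg using Subgroup.closure_induction with
  | mem x hx => obtain ⟨y, rfl⟩ := hx; exact hgen y
  | one => exact hone
  | mul x y _ _ hx hy => exact hmul x y hx hy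
  | inv x _ hx =>
    have hfin : ∀ n : ℕ, x ^ n ∈ {g | ∃ a, ∃ k : Fin 9, g = D a * P (pp k)} := by
      intro n
      induction n with
      | zero => simpa using hone
      | succ n ih => rw [pow_succ]; exact hmul _ _ ih hx
    rw [inv_eq_of_mul_eq_one_right (show x * x ^ (orderOf x - 1) = 1 by
      rw [← pow_succ', Nat.sub_add_cancel (orderOf_pos x), pow_orderOf_eq_one])]
    exact hfin _

theorem card_mono : Nat.card mono = 3 ^ 7 := by
  let e : Cv × Fin 9 → mono := fun x => ⟨_, Subgroup.subset_closure ⟨x, rfl⟩⟩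
  have he : Function.Bijective e := by
    refine ⟨?_, fun g => ?_⟩
    · rintro ⟨a, i⟩ ⟨b, j⟩ h
      have h' : ∀ c r, (suMat (D a * P (pp i)) *ᵥ Pi.single c 1) r =
          (suMat (D b * P (pp j)) *ᵥ Pi.single c 1) r := fun c r => by
        rw [show D a * P (pp i) = D b * P (pp j) from congrArg Subtype.val h]
      simp only [suMat_mulVec_mul, D_apply, P_apply, Pi.single_apply] at h'
      have hij : i = j := pp_inj _ _ (Equiv.ext fun c => by
        have h1 := h' c (pp i c)
        rw [Equiv.symm_apply_apply, if_pos rfl, mul_one] at h1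
        by_cases hc : (pp j).symm (pp i c) = c
        · exact (pp j).symm_apply_eq.1 hc
        · rw [if_neg hc, mul_zero] at h1
          exact absurd h1 (wp_ne _))
      subst hij
      refine Prod.ext (funext fun r => wp_inj _ _ ?_) rfl
      have h1 := h' ((pp i).symm r.castSucc) r.castSucc
      simpa [H61.U6M.ext] using h1
    · obtain ⟨a, k, hk⟩ := mem_mono g.2
      exact ⟨(a, k), Subtype.ext hk.symm⟩
  rw [← Nat.card_eq_of_bijective e he, Nat.card_prod, Nat.card_fin, Nat.card_fun, Nat.card_fin,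
    Nat.card_zmod]
  norm_num

/-- Table lookup of the diagonal columns. -/
def dget (a : Cv) : List ℕ :=
  let c := ∑ i : Fin 5, (a i : Fin 3).val * 3 ^ i.val
  (dtab.getD (c / 27) []).getD (c % 27) []

theorem dget_eq : ∀ a : Cv, colD a = dget a ∧ ∃ l ∈ dtab, dget a ∈ l := by decide +kernel

theorem ptab_ok : ∀ k : Fin 9, ∀ i : Fin 20,
    app (ptab.getD k.val []) (2 ^ i.val) =
        runW ((pws k).map (Fin.castLE (by norm_num : 5 ≤ 8))) (2 ^ i.val) ∧
      ptab.getD k.val [] ∈ ptab := by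
  decide +kernel

theorem gspan_spec (k : ℕ) (S : Set ℕ) (hx : ∀ x ∈ S, ∀ y ∈ S, x ^^^ y ∈ S) (vs : List ℕ) :
    (∀ v ∈ vs, v ∈ S) → ∀ s : List ℕ, s.Nodup → (∀ a ∈ s, a ∈ S) →
      (∀ a ∈ s, ∀ b ∈ s, a ^^^ b ∈ s) →
      (vs.foldl (fun s v => if (decide (2 ^ k ≤ s.length) || s.contains v) then s
          else s ++ s.map (v ^^^ ·)) s).Nodup ∧
        ∀ a ∈ vs.foldl (fun s v => if (decide (2 ^ k ≤ s.length) || s.contains v) then s
          else s ++ s.map (v ^^^ ·)) s, a ∈ S := by
  induction vs with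
  | nil => exact fun _ s h1 h2 _ => ⟨h1, h2⟩
  | cons v vs ih =>
    intro hvs s h1 h2 h3
    rw [List.foldl_cons]
    split_ifs with hc
    · exact ih (fun u hu => hvs u (List.mem_cons_of_mem _ hu)) s h1 h2 h3
    have hv : v ∉ s := fun h => hc (by simp [h])
    have hinj : Function.Injective (v ^^^ ·) := fun a b hab => by
      have := congrArg (v ^^^ ·) hab
      simpa [← Nat.xor_assoc] using this
    refine ih (fun u hu => hvs u (List.mem_cons_of_mem _ hu)) _ ?_ ?_ ?_
    · refine List.nodup_append.2 ⟨h1, h1.map hinj, ?_⟩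
      intro a ha b hb hab
      obtain ⟨c, hc', rfl⟩ := List.mem_map.1 hb
      refine hv ?_
      have := h3 a ha c hc'
      rwa [hab, Nat.xor_assoc, Nat.xor_self, Nat.xor_zero] at this
    · intro a ha
      rcases List.mem_append.1 ha with ha | ha
      · exact h2 a ha
      · obtain ⟨c, hc', rfl⟩ := List.mem_map.1 ha
        exact hx _ (hvs v (List.mem_cons_self ..)) _ (h2 c hc')
    · intro a ha b hb
      rcases List.mem_append.1 ha with ha | ha <;> rcases List.mem_append.1 hb with hb | hb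
      · exact List.mem_append_left _ (h3 a ha b hb)
      · obtain ⟨c, hc', rfl⟩ := List.mem_map.1 hb
        exact List.mem_append_right _ (List.mem_map.2 ⟨a ^^^ c, h3 a ha c hc', by
          rw [← Nat.xor_assoc, Nat.xor_comm v a, Nat.xor_assoc]⟩)
      · obtain ⟨c, hc', rfl⟩ := List.mem_map.1 ha
        exact List.mem_append_right _ (List.mem_map.2 ⟨c ^^^ b, h3 c hc' b hb, by
          rw [Nat.xor_assoc]⟩)
      · obtain ⟨c, hc', rfl⟩ := List.mem_map.1 ha
        obtain ⟨d, hd', rfl⟩ := List.mem_map.1 hb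
        refine List.mem_append_left _ ?_
        rw [show v ^^^ c ^^^ (v ^^^ d) = c ^^^ d by
          rw [Nat.xor_comm v c, Nat.xor_assoc c v, ← Nat.xor_assoc v v, Nat.xor_self, Nat.zero_xor]]
        exact h3 c hc' d hd'

variable {V : Type*} [AddCommGroup V] (C : Ctx V)

include C in
theorem finite_V : Finite V := Nat.finite_of_card_ne_zero (by rw [C.card]; norm_num)

/-- An element given on codes by a map of rank at least `k` fixes at most `2 ^ (20 - k)` vectors. -/
theorem fix_of_rank {k : ℕ} (hk : k ≤ 20) {g : SU 6 K 2} {f : ℕ → ℕ}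
    (hf : ∀ i < 20, C.act g (C.Φ (2 ^ i)) = C.Φ (f (2 ^ i)) ∧ f (2 ^ i) < 2 ^ 20)
    (hr : rankOK k f = true) (hg : g ∉ Subgroup.center (SU 6 K 2)) :
    Nat.card {v : V // C.act g v = v} ≤ 2 ^ (20 - k) := by
  haveI := finite_V C
  have h2 : ∀ i < 20, (2 : ℕ) ^ i < 2 ^ 20 := fun i hi => Nat.pow_lt_pow_right (by norm_num) hi
  rw [rankOK, Bool.or_eq_true, decide_eq_true_eq] at hr
  rcases hr with hr | hr
  · exfalso
    refine hg (C.faith g fun v => ?_)
    obtain ⟨x, hx, rfl⟩ := C.Phi_surj v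
    have hall : ∀ x < 2 ^ 20, C.act g (C.Φ x) = C.Φ x := by
      intro x hx
      have key : ∀ n ≤ 20, ∀ x < 2 ^ n, C.act g (C.Φ x) = C.Φ x := by
        intro n hn
        induction n with
        | zero =>
          intro x hx
          rw [show x = 0 by simpa using hx, show C.Φ 0 = 0 from comb_zero _, map_zero]
        | succ n ih =>
          intro x hx
          by_cases hx' : x < 2 ^ n
          · exact ih (by omega) x hx'
          obtain ⟨r, hr', rfl⟩ : ∃ r, r < 2 ^ n ∧ x = r ^^^ 2 ^ n := by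
            refine ⟨x - 2 ^ n, by rw [pow_succ] at hx; omega, ?_⟩
            rw [show (2 : ℕ) ^ n = 1 * 2 ^ n by rw [one_mul], xor_high _ _ _
              (by rw [pow_succ] at hx; omega)]
            omega
          have hi : n < 20 := by omega
          have := (List.all_eq_true.1 hr) (f (2 ^ n) ^^^ 2 ^ n)
            (List.mem_map.2 ⟨n, List.mem_range.2 hi, rfl⟩)
          rw [beq_iff_eq, Nat.xor_eq_zero_iff] at this
          rw [C.Phi_xor, map_add, ih (by omega) r hr', (hf n hi).1, this]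
      exact key 20 le_rfl x hx
    exact hall x hx
  set φ : V →+ V := C.act g + AddMonoidHom.id V with hφ
  have hφa : ∀ v, φ v = C.act g v + v := fun v => rfl
  set S : Set ℕ := {x | x < 2 ^ 20 ∧ C.Φ x ∈ φ.range} with hS
  have hSx : ∀ x ∈ S, ∀ y ∈ S, x ^^^ y ∈ S := fun x hx y hy =>
    ⟨Nat.xor_lt_two_pow hx.1 hy.1, by rw [C.Phi_xor]; exact add_mem hx.2 hy.2⟩
  obtain ⟨hnd, hmem⟩ := gspan_spec k S hSx (imgs f) (by
      intro v hv
      obtain ⟨i, hi, rfl⟩ := List.mem_map.1 hv
      rw [List.mem_range] at hi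
      refine ⟨Nat.xor_lt_two_pow (hf i hi).2 (h2 i hi), C.Φ (2 ^ i), ?_⟩
      rw [hφa, (hf i hi).1, C.Phi_xor])
    [0] (List.nodup_singleton 0)
    (by
      intro a ha
      rw [List.mem_singleton] at ha
      subst ha
      exact ⟨by norm_num, 0, by rw [map_zero]; exact (comb_zero _).symm⟩)
    (by simp)
  have hrange : (gspan k (imgs f)).length ≤ Nat.card φ.range := by
    set L := gspan k (imgs f) with hL
    let F : Fin L.length → φ.range := fun i => ⟨C.Φ (L[i.val]), (hmem _ (List.getElem_mem i.2)).2⟩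
    have hF : Function.Injective F := fun i j hij => by
      have h := C.Phi_inj (hmem _ (List.getElem_mem i.2)).1 (hmem _ (List.getElem_mem j.2)).1
        (congrArg Subtype.val hij)
      exact Fin.ext (hnd.getElem_inj_iff.1 h)
    simpa using Nat.card_le_card_of_injective F hF
  have hker : Nat.card {v : V // C.act g v = v} = Nat.card φ.ker := by
    refine Nat.card_congr (Equiv.subtypeEquivRight fun v => ?_)
    rw [AddMonoidHom.mem_ker, hφa]
    constructor
    · intro h; rw [h, C.two]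
    · intro h; exact (eq_neg_of_add_eq_zero_left h).trans (neg_eq_of_add_eq_zero_right (C.two v))
  have hmul := AddSubgroup.card_eq_card_quotient_mul_card_addSubgroup φ.ker
  rw [Nat.card_congr (QuotientAddGroup.quotientKerEquivRange φ).toEquiv, C.card] at hmul
  rw [hker]
  refine Nat.le_of_mul_le_mul_left ?_ (Nat.two_pow_pos k)
  rw [← pow_add, Nat.add_sub_cancel' hk, hmul]
  exact Nat.mul_le_mul_right _ (hr.trans hrange)

/-- Elements with equal images act equally. -/
theorem act_eq {g h : SU 6 K 2} (e : (QuotientGroup.mk g : PSU 6 K 2) = QuotientGroup.mk h) (v : V) :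
    C.act g v = C.act h v := by
  have := C.cen _ (QuotientGroup.eq.1 e) v
  conv_rhs => rw [show h = g * (g⁻¹ * h) by group, C.mul, this]

/-- Fixed vectors do not grow along conjugate powers. -/
theorem card_fix_le {g h c : SU 6 K 2} {j : ℕ}
    (e : (QuotientGroup.mk h : PSU 6 K 2) = QuotientGroup.mk (c * g ^ j * c⁻¹)) :
    Nat.card {v : V // C.act g v = v} ≤ Nat.card {v : V // C.act h v = v} := by
  haveI := finite_V C
  have hpow : ∀ v, C.act g v = v → C.act (g ^ j) v = v := by
    intro v hv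
    clear e
    induction j with
    | zero => rw [pow_zero, C.one]
    | succ n ih => rw [pow_succ, C.mul, hv, ih]
  refine Nat.card_le_card_of_injective (fun v => ⟨C.act c v.1, ?_⟩) ?_
  · rw [act_eq C e, C.mul, C.mul, ← C.mul c⁻¹ c, inv_mul_cancel, C.one, hpow _ v.2]
  · intro v w hvw
    have := congrArg (fun x => C.act c⁻¹ x.1) hvw
    simp only [← C.mul, inv_mul_cancel, C.one] at this
    exact Subtype.ext this

/-- Elements of order three modulo scalars. -/
theorem fix_three (g : SU 6 K 2) (hg : orderOf (QuotientGroup.mk g : PSU 6 K 2) = 3) :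
    Nat.card {v : V // C.act g v = v} ≤ 2 ^ 13 := by
  haveI : Fact (Nat.Prime 3) := ⟨by norm_num⟩
  have hc : g ^ 3 ∈ Subgroup.center (SU 6 K 2) := by
    rw [← QuotientGroup.eq_one_iff, QuotientGroup.mk_pow, ← hg, pow_orderOf_eq_one]
  obtain ⟨l, hl, hm⟩ := scalar_of_mem_center hK (by norm_num) hc
  have h9 : g ^ (3 ^ 2) = 1 := by
    refine suMat_ext fun x => ?_
    rw [show g ^ (3 ^ 2) = g ^ 3 * g ^ 3 * g ^ 3 by group, suMat_mulVec_mul, suMat_mulVec_mul, hm,
      suMat_one, one_mulVec, smul_mulVec, one_mulVec, smul_mulVec, one_mulVec, smul_mulVec,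
      one_mulVec, smul_smul, smul_smul, show l * l * l = 1 by linear_combination hl, one_smul]
  have hp : IsPGroup 3 (Subgroup.zpowers g) := by
    obtain ⟨m, -, hm⟩ := (Nat.dvd_prime_pow Fact.out).1 (orderOf_dvd_of_pow_eq_one h9)
    exact IsPGroup.of_card (n := m) (by rw [Nat.card_zpowers, hm])
  obtain ⟨Q, hQ⟩ := hp.exists_le_sylow
  have hfac : (Nat.card (SU 6 K 2)).factorization 3 = 7 := by
    rw [H72.U6R.card_SU hK, show 2 ^ 15 * 841995 = 3 ^ 7 * (2 ^ 15 * 385) by norm_num,
      Nat.factorization_mul (by norm_num) (by norm_num), Finsupp.add_apply,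
      Nat.Prime.factorization_pow Fact.out, Finsupp.single_eq_same,
      Nat.factorization_eq_zero_of_not_dvd (by norm_num)]
  set P0 : Sylow 3 (SU 6 K 2) := Sylow.ofCard mono (by rw [card_mono, hfac]) with hP0
  obtain ⟨c, hc'⟩ := MulAction.exists_smul_eq (SU 6 K 2) Q P0
  have hmem : c * g * c⁻¹ ∈ mono := by
    have h1 : c * g * c⁻¹ ∈ (P0 : Subgroup (SU 6 K 2)) := by
      rw [← hc']
      exact ⟨g, hQ (Subgroup.mem_zpowers g), rfl⟩
    exact h1
  obtain ⟨a, k, hak⟩ := mem_mono hmem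
  refine (card_fix_le C (g := g) (h := c * g * c⁻¹) (c := c) (j := 1) (by rw [pow_one])).trans ?_
  rw [hak, pp, ← elG_perm]
  set w := (pws k).map (Fin.castLE (by norm_num : 5 ≤ 8)) with hw
  set M := ptab.getD k.val [] with hM
  have hM' : M ∈ ptab := (ptab_ok k 0).2
  obtain ⟨hd, l', hl', hdl⟩ := dget_eq a
  refine fix_of_rank C (k := 7) (by norm_num) (f := fun x => app (dget a) (app M x)) ?_
    (List.all_eq_true.1 (rows_ok _ hl' _ hdl) M hM') ?_
  · intro i hi
    have e := (ptab_ok k ⟨i, hi⟩).1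
    simp only at e ⊢
    rw [← hd, C.mul, C.Phi_run, show C.act (D a) = C.R a from rfl, C.Phi_R, e]
    exact ⟨rfl, app_lt _ (colD_lt a) _⟩
  · intro hcen
    rw [hw, elG_perm, ← pp, ← hak] at hcen
    have : (QuotientGroup.mk g : PSU 6 K 2) = 1 := by
      rw [QuotientGroup.eq_one_iff]
      have := Subgroup.Normal.conj_mem inferInstance _ hcen c⁻¹
      simpa [mul_assoc] using this
    rw [this, orderOf_one] at hg
    exact absurd hg (by norm_num)

/-- The witness of a given order. -/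
def word : ℕ → List (Fin 8)
  | 5 => [3, 6, 5]
  | 7 => [7, 4, 2, 3, 5, 6]
  | _ => [5, 2, 6, 3, 1]

/-- Iterating a map. -/
def pw : ℕ → (ℕ → ℕ) → ℕ → ℕ
  | 0, _, x => x
  | n + 1, f, x => f (pw n f x)

theorem word_ok : ∀ p ∈ [5, 7, 11], rankOK 6 (runW (word p)) = true ∧
    (∃ i : Fin 20, runW (word p) (2 ^ i.val) ≠ 2 ^ i.val) ∧
    ∀ i : Fin 20, pw p (runW (word p)) (2 ^ i.val) = 2 ^ i.val := by
  decide +kernel

theorem runW_pw_lt (w : List (Fin 8)) {x : ℕ} (hx : x < 2 ^ 20) :
    ∀ n, pw n (runW w) x < 2 ^ 20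
  | 0 => hx
  | n + 1 => runW_lt w (runW_pw_lt w hx n)

theorem pw_xor (w : List (Fin 8)) :
    ∀ (n a b : ℕ), pw n (runW w) (a ^^^ b) = pw n (runW w) a ^^^ pw n (runW w) b
  | 0, _, _ => rfl
  | n + 1, a, b => by simp only [pw, pw_xor w n, runW_xor]

theorem act_pw (w : List (Fin 8)) : ∀ (n x : ℕ),
    C.act (elG w ^ n) (C.Φ x) = C.Φ (pw n (runW w) x)
  | 0, x => by rw [pow_zero, C.one]; rfl
  | n + 1, x => by rw [pow_succ', C.mul, act_pw w n x, C.Phi_run]; rfl

/-- Elements of order five, seven or eleven modulo scalars. -/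
theorem fix_large (g : SU 6 K 2) (p : ℕ) (hp : p ∈ [5, 7, 11])
    (hg : orderOf (QuotientGroup.mk g : PSU 6 K 2) = p) :
    Nat.card {v : V // C.act g v = v} ≤ 2 ^ 14 := by
  haveI : Fact (Nat.Prime p) := ⟨by fin_cases hp <;> norm_num⟩
  obtain ⟨hr, ⟨i0, hi0⟩, hpw⟩ := word_ok p hp
  set e := elG (word p) with he
  have hne : e ∉ Subgroup.center (SU 6 K 2) := fun h => hi0 (C.Phi_inj
    (runW_lt _ (Nat.pow_lt_pow_right (by norm_num) i0.2)) (Nat.pow_lt_pow_right (by norm_num) i0.2)
    (by rw [← C.Phi_run]; exact C.cen _ h _))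
  have hpc : e ^ p ∈ Subgroup.center (SU 6 K 2) := by
    refine C.faith _ fun v => ?_
    obtain ⟨x, hx, rfl⟩ := C.Phi_surj v
    rw [he, act_pw]
    congr 1
    exact lin_ext (f := pw p (runW (word p))) (g := fun x => x) (pw_xor _ p) (fun _ _ => rfl) 20
      (fun i hi => hpw ⟨i, hi⟩) x hx
  have heo : orderOf (QuotientGroup.mk e : PSU 6 K 2) = p :=
    orderOf_eq_prime (by rw [← QuotientGroup.mk_pow, QuotientGroup.eq_one_iff]; exact hpc)
      (by rw [Ne, QuotientGroup.eq_one_iff]; exact hne)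
  have hfac : (Nat.card (PSU 6 K 2)).factorization p = 1 := by
    rw [H72.U6R.card_psu hK]
    fin_cases hp
    · rw [show 2 ^ 15 * 280665 = 5 ^ 1 * (2 ^ 15 * 56133) by norm_num,
        Nat.factorization_mul (by norm_num) (by norm_num), Finsupp.add_apply,
        Nat.Prime.factorization_pow (by norm_num), Finsupp.single_eq_same,
        Nat.factorization_eq_zero_of_not_dvd (by norm_num)]
    · rw [show 2 ^ 15 * 280665 = 7 ^ 1 * (2 ^ 15 * 40095) by norm_num,
        Nat.factorization_mul (by norm_num) (by norm_num), Finsupp.add_apply,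
        Nat.Prime.factorization_pow (by norm_num), Finsupp.single_eq_same,
        Nat.factorization_eq_zero_of_not_dvd (by norm_num)]
    · rw [show 2 ^ 15 * 280665 = 11 ^ 1 * (2 ^ 15 * 25515) by norm_num,
        Nat.factorization_mul (by norm_num) (by norm_num), Finsupp.add_apply,
        Nat.Prime.factorization_pow (by norm_num), Finsupp.single_eq_same,
        Nat.factorization_eq_zero_of_not_dvd (by norm_num)]
  set Pg : Sylow p (PSU 6 K 2) := Sylow.ofCard (Subgroup.zpowers (QuotientGroup.mk g))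
    (by rw [Nat.card_zpowers, hg, hfac, pow_one])
  set Pe : Sylow p (PSU 6 K 2) := Sylow.ofCard (Subgroup.zpowers (QuotientGroup.mk e))
    (by rw [Nat.card_zpowers, heo, hfac, pow_one])
  obtain ⟨cb, hcb⟩ := MulAction.exists_smul_eq (PSU 6 K 2) Pg Pe
  obtain ⟨c, rfl⟩ := QuotientGroup.mk_surjective cb
  have hmem : (QuotientGroup.mk e : PSU 6 K 2) ∈ ((Pe : Sylow p _) : Subgroup (PSU 6 K 2)) :=
    Subgroup.mem_zpowers _
  rw [← hcb] at hmem
  obtain ⟨y, hy, hye⟩ := hmem
  obtain ⟨j, hj⟩ := (IsOfFinOrder.mem_powers_iff_mem_zpowers (isOfFinOrder_of_finite _)).2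
    (show y ∈ Subgroup.zpowers (QuotientGroup.mk g : PSU 6 K 2) from hy)
  refine (card_fix_le C (g := g) (h := e) (c := c) (j := j) ?_).trans
    (fix_of_rank C (k := 6) (by norm_num) (f := runW (word p)) (fun i hi => ?_) hr hne)
  · rw [← hye, ← hj]
    simp [MulDistribMulAction.toMonoidEnd_apply, QuotientGroup.mk_mul, QuotientGroup.mk_pow,
      QuotientGroup.mk_inv]
  · exact ⟨C.Phi_run _ _, runW_lt _ (Nat.pow_lt_pow_right (by norm_num) hi)⟩

/-- Elements of odd prime order modulo scalars fix at most 2^14 vectors, 2^13 for p = 3. -/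
theorem fix_bound (g : SU 6 K 2) (p : ℕ) (hp : p.Prime) (hp2 : p ≠ 2)
    (hg : orderOf (QuotientGroup.mk g : PSU 6 K 2) = p) :
    Nat.card {v : V // C.act g v = v} ≤ 2 ^ 14 ∧
      (p = 3 → Nat.card {v : V // C.act g v = v} ≤ 2 ^ 13) := by
  by_cases h3 : p = 3
  · subst h3
    exact ⟨(fix_three C g hg).trans (by norm_num), fun _ => fix_three C g hg⟩
  have hdvd : p ∣ 2 ^ 15 * 280665 := by
    rw [← H72.U6R.card_psu hK, ← hg]
    exact orderOf_dvd_natCard _
  have hdvd' : p ∣ 280665 := by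
    rcases hp.dvd_mul.1 hdvd with h | h
    · exact absurd ((Nat.prime_dvd_prime_iff_eq hp Nat.prime_two).1 (hp.dvd_of_dvd_pow h)) hp2
    · exact h
  have hmem : p ∈ [5, 7, 11] := by
    have hd : p ∣ 3 ^ 6 * 5 * 7 * 11 := by norm_num; exact hdvd'
    rcases hp.dvd_mul.1 hd with h | h
    · rcases hp.dvd_mul.1 h with h | h
      · rcases hp.dvd_mul.1 h with h | h
        · exact absurd ((Nat.prime_dvd_prime_iff_eq hp Nat.prime_three).1 (hp.dvd_of_dvd_pow h)) h3
        · rw [(Nat.prime_dvd_prime_iff_eq hp (by norm_num)).1 h]; simp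
      · rw [(Nat.prime_dvd_prime_iff_eq hp (by norm_num)).1 h]; simp
    · rw [(Nat.prime_dvd_prime_iff_eq hp (by norm_num)).1 h]; simp
  exact ⟨fix_large C g p hmem hg, fun h => absurd h h3⟩

end H18.U6M
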