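import Cfsg.Agent.H61.U6M.Gens
import Cfsg.Agent.H73.TT.U6Trans
import Cfsg.Agent.H72.U62Lift
import Cfsg.Agent.H50.Parabolic

/-!
Normal forms of the involutory automorphisms of `PSU(6,2)` up to diagonal automorphisms.
-/

set_option autoImplicit false
set_option linter.unusedSectionVars false

open Matrix Cfsg H50 H55.Psu H61.U6M

namespace H18.U6M

open H5.TT H72.U62Lift

local notation "hh" => hermForm 6 K 2

/-- The displacement as a linear map. -/
def dispL (A : SU 6 K 2) : (Fin 6 → K) →ₗ[K] Fin 6 → K where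
  toFun := disp A
  map_add' := disp_add A
  map_smul' := disp_smul A

@[simp] theorem dispL_apply (A : SU 6 K 2) (x : Fin 6 → K) : dispL A x = disp A x := rfl

/-- An involution is a commuting product of transvections with independent centres. -/
theorem exists_centres : ∀ (d : ℕ) (A : SU 6 K 2), A * A = 1 →
    {x | suMat A *ᵥ x ≠ x}.ncard ≤ d →
    ∃ (k : ℕ) (a : Fin k → Fin 6 → K), LinearIndependent K a ∧
      (∀ i, a i ∈ LinearMap.range (dispL A)) ∧ ∀ x, disp A x = ∑ i, hh x (a i) • a i := by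
  intro d
  induction d with
  | zero =>
    intro A _ hd
    refine ⟨0, Fin.elim0, linearIndependent_empty_type, fun i => i.elim0, fun x => ?_⟩
    rw [Nat.le_zero, Set.ncard_eq_zero] at hd
    rw [Finset.univ_eq_empty, Finset.sum_empty, disp_eq_zero hK]
    by_contra hne
    have : x ∈ {x | suMat A *ᵥ x ≠ x} := hne
    rw [hd] at this
    exact this
  | succ d ih =>
    intro A hA hd
    by_cases hA1 : A = 1
    · refine ⟨0, Fin.elim0, linearIndependent_empty_type, fun i => i.elim0, fun x => ?_⟩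
      rw [Finset.univ_eq_empty, Finset.sum_empty, disp_eq_zero hK, hA1, suMat_one, one_mulVec]
    obtain ⟨x1, hx1⟩ := exists_disp_one hK hA hA1
    set a := disp A x1 with ha
    have ha0 : a ≠ 0 := fun h => by
      rw [h, h_zero_right hK] at hx1
      exact zero_ne_one hx1
    obtain ⟨T, hT⟩ := U2.exists_tr hK ha0 (disp_orth hK hA x1 x1)
    have hTT := U2.tr_sq hK hT
    have hfix : suMat A *ᵥ a = a := (disp_eq_zero hK _ _).1 (disp_disp hK hA x1)
    have hcomm : A * T = T * A := by
      have h := U2.tr_conj hK hT A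
      rw [hfix] at h
      exact mul_inv_eq_iff_eq_mul.1 (U2.tr_unique hK h hT)
    have hB : A * T * (A * T) = 1 := by
      calc A * T * (A * T) = A * (T * A) * T := by group
        _ = (A * A) * (T * T) := by rw [← hcomm]; group
        _ = 1 := by rw [hA, hTT, one_mul]
    have hdisp : ∀ x, disp (A * T) x = disp A (x + hh x a • x1) := by
      intro x
      rw [disp_add, disp_smul, ← ha]
      simp only [disp, suMat_mulVec_mul, hT.2.2, mulVec_add, mulVec_smul, hfix]
      abel
    have hsub : {x | suMat (A * T) *ᵥ x ≠ x} ⊂ {x | suMat A *ᵥ x ≠ x} := by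
      refine ⟨fun x hx h => hx ?_, fun hsub => ?_⟩
      · rw [suMat_mulVec_mul, U2.tr_fix hK hT, h]
        rw [ha, disp_swap hK hA, (disp_eq_zero hK _ _).2 h, h_zero_left]
      · have hmem : x1 ∈ {x | suMat A *ᵥ x ≠ x} := fun h => ha0 ((disp_eq_zero hK _ _).2 h)
        refine hsub hmem ?_
        rw [← disp_eq_zero hK, hdisp, hx1, one_smul, U2.vec_add_self hK, ← dispL_apply, map_zero]
    have hlt := Set.ncard_lt_ncard hsub (Set.toFinite _)
    obtain ⟨k, b, hb, hbr, hbf⟩ := ih (A * T) hB (by omega)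
    have hnot : a ∉ LinearMap.range (dispL (A * T)) := by
      rintro ⟨z, hz⟩
      rw [dispL_apply, hdisp] at hz
      have h0 : hh (z + hh z a • x1) a = 0 := by
        rw [h_add_left, h_smul_left, hx1, mul_one, add_self]
      have h1 : hh (z + hh z a • x1) a = 1 := by
        conv_lhs => rw [ha, disp_swap hK hA, hz]
        rw [h_symm hK x1 a, hx1, one_pow]
      exact zero_ne_one (h0.symm.trans h1)
    refine ⟨k + 1, Fin.cons a b, ?_, ?_, fun x => ?_⟩
    · exact linearIndependent_finCons.2 ⟨hb, fun h => hnot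
        (Submodule.span_le.2 (by rintro _ ⟨i, rfl⟩; exact hbr i) h)⟩
    · refine Fin.cases ?_ fun i => ?_
      · exact ⟨x1, rfl⟩
      · rw [Fin.cons_succ]
        obtain ⟨z, hz⟩ := hbr i
        exact ⟨_, ((dispL_apply A _).trans (hdisp z).symm).trans hz⟩
    · rw [Fin.sum_univ_succ]
      simp only [Fin.cons_zero, Fin.cons_succ]
      rw [← hbf, hdisp, disp_add, disp_smul, ← ha, add_left_comm, U2.vec_add_self hK, add_zero]

/-- The standard centres. -/
def ctr : Fin 3 → Fin 6 → K := ![![1, 1, 0, 0, 0, 0], ![0, 0, 1, 1, 0, 0], ![0, 0, 0, 0, 1, 1]]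

theorem ctr_orth : ∀ i j, hh (ctr i) (ctr j) = 0 := by decide +kernel

theorem ctr_li : LinearIndependent K ctr := by
  rw [Fintype.linearIndependent_iff]
  intro g hg i
  have h0 := congrFun hg 0
  have h2 := congrFun hg 2
  have h4 := congrFun hg 4
  simp [ctr, Fin.sum_univ_three] at h0 h2 h4
  fin_cases i <;> assumption

theorem ctr_h (x : Fin 6 → K) :
    hh x ![1, 1, 0, 0, 0, 0] = x 0 + x 1 ∧ hh x ![0, 0, 1, 1, 0, 0] = x 2 + x 3 ∧
      hh x ![0, 0, 0, 0, 1, 1] = x 4 + x 5 := by
  simp [hermForm, Fin.sum_univ_six]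

/-- A permutation with the displacement of the standard centres. -/
theorem exists_perm : ∀ k : ℕ, 1 ≤ k → (hk3 : k ≤ 3) →
    ∃ π ∈ [Equiv.swap (0 : Fin 6) 1, Equiv.swap (0 : Fin 6) 1 * Equiv.swap 2 3,
      Equiv.swap (0 : Fin 6) 1 * Equiv.swap 2 3 * Equiv.swap 4 5],
    ∀ x, suMat (P π) *ᵥ x = x + ∑ i : Fin k, hh x (ctr (Fin.castLE hk3 i)) • ctr (Fin.castLE hk3 i) := by
  intro k hk hk3
  have c2 : ∀ u v : K, u + (u + v) = v := fun u v => by rw [← add_assoc, add_self, zero_add]
  have c2' : ∀ u v : K, v + (u + v) = u := fun u v => by rw [add_comm u, c2]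
  interval_cases k
  · refine ⟨Equiv.swap (0 : Fin 6) 1, by simp, fun x => ?_⟩
    obtain ⟨h0, -, -⟩ := ctr_h x
    funext i
    rw [P_apply, show (Equiv.swap (0 : Fin 6) 1).symm = Equiv.swap 0 1 from Equiv.symm_swap _ _]
    fin_cases i <;> simp [h0, ctr, c2, c2', Equiv.swap_apply_def]
  · refine ⟨Equiv.swap (0 : Fin 6) 1 * Equiv.swap 2 3, by simp, fun x => ?_⟩
    obtain ⟨h0, h1, -⟩ := ctr_h x
    funext i
    rw [P_apply, show Equiv.symm (Equiv.swap (0 : Fin 6) 1 * Equiv.swap 2 3) =
      (Equiv.swap (0 : Fin 6) 1 * Equiv.swap 2 3 : Equiv.Perm (Fin 6)) by decide]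
    fin_cases i <;> simp [h0, h1, ctr, c2, c2', Equiv.swap_apply_def, Fin.sum_univ_two]
  · refine ⟨Equiv.swap (0 : Fin 6) 1 * Equiv.swap 2 3 * Equiv.swap 4 5, by simp, fun x => ?_⟩
    obtain ⟨h0, h1, h2⟩ := ctr_h x
    funext i
    rw [P_apply, show Equiv.symm (Equiv.swap (0 : Fin 6) 1 * Equiv.swap 2 3 * Equiv.swap 4 5) =
      (Equiv.swap (0 : Fin 6) 1 * Equiv.swap 2 3 * Equiv.swap 4 5 : Equiv.Perm (Fin 6)) by decide]
    fin_cases i <;> simp [h0, h1, h2, ctr, c2, c2', Equiv.swap_apply_def, Fin.sum_univ_three]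

/-- inner involutions up to diagonal automorphisms -/
theorem inner_normal_form (t : PSU 6 K 2) (ht : t * t = 1) (ht1 : t ≠ 1) :
    ∃ g : GU 6 K 2, ∃ π ∈ [Equiv.swap (0 : Fin 6) 1, Equiv.swap (0 : Fin 6) 1 * Equiv.swap 2 3,
        Equiv.swap (0 : Fin 6) 1 * Equiv.swap 2 3 * Equiv.swap 4 5],
      t = (conjPu g : MulAut (PSU 6 K 2)) (umk (P π)) := by
  obtain ⟨s, rfl⟩ := umk_surjective t
  set z := s * s with hz
  have hzc : z ∈ Subgroup.center (SU 6 K 2) := by
    rw [← QuotientGroup.eq_one_iff]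
    show umk z = 1
    rw [hz, map_mul, ht]
  obtain ⟨l, hl, hm⟩ := scalar_of_mem_center hK (by norm_num) hzc
  have hz3 : z * z * z = 1 := by
    refine suMat_ext fun x => ?_
    rw [suMat_mulVec_mul, suMat_mulVec_mul, hm, suMat_one, one_mulVec,
      smul_mulVec, one_mulVec, smul_mulVec, one_mulVec, smul_mulVec, one_mulVec, smul_smul,
      smul_smul, show l * l * l = 1 by linear_combination hl, one_smul]
  set A := s * s * s with hA'
  have hA : A * A = 1 := by
    rw [hA', show s * s * s * (s * s * s) = z * z * z by rw [hz]; group, hz3]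
  have hAs : umk A = umk s := by rw [hA', map_mul, map_mul, ht, one_mul]
  obtain ⟨k, a, ha, har, haf⟩ := exists_centres _ A hA le_rfl
  have hao : ∀ i j, hh (a i) (a j) = 0 := fun i j => by
    obtain ⟨x, hx⟩ := har i
    obtain ⟨y, hy⟩ := har j
    rw [← hx, ← hy]
    exact disp_orth hK hA x y
  have hk3 : k ≤ 3 := by
    have := totIsotropic_card_le hK ha hao
    omega
  have hk1 : 1 ≤ k := by
    rcases Nat.eq_zero_or_pos k with rfl | h
    · exfalso
      refine ht1 ?_
      rw [← hAs, show A = 1 from suMat_ext fun x => ?_, map_one]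
      rw [suMat_one, one_mulVec, ← disp_eq_zero hK, haf, Finset.univ_eq_empty, Finset.sum_empty]
    · exact h
  obtain ⟨π, hπ, hPπ⟩ := exists_perm k hk1 hk3
  obtain ⟨g, hg⟩ := exists_moveFrame hK
    (⟨fun i => ctr (Fin.castLE hk3 i), ctr_li.comp _ (Fin.castLE_injective hk3),
      fun i j => ctr_orth _ _⟩ : TIFrame 6 2 k K) ⟨a, ha, hao⟩
  have hgi : ∀ i, guMat g *ᵥ ctr (Fin.castLE hk3 i) = a i := fun i =>
    congrFun (congrArg Subtype.val hg) i
  refine ⟨g, π, hπ, ?_⟩
  rw [conjPu_umk, ← hAs]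
  refine congrArg umk (suMat_ext fun x => ?_)
  show _ = (guMat g * suMat (P π) * guMat g⁻¹) *ᵥ x
  rw [← mulVec_mulVec, ← mulVec_mulVec, hPπ, mulVec_add, guMat_mulVec_inv, mulVec_sum,
    apply_eq hK, haf]
  congr 1
  refine Finset.sum_congr rfl fun i _ => ?_
  rw [mulVec_smul, hgi]
  congr 1
  rw [← hgi i]
  conv_lhs => rw [← guMat_mulVec_inv g x]
  exact GU_isIso g _ _

section Outer

variable {A : GU 6 K 2}

local notation "φ" => H73.TT.U6.phi hK A

/-- A fixed family with a dual permutation leaves a fixed vector in its orthogonal. -/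
theorem exists_comp (hA : (guMat A)ᵀ = guMat A) {ι : Type} [Fintype ι] [DecidableEq ι]
    (u : ι → Fin 6 → K) (σ : Equiv.Perm ι) (hfix : ∀ i, φ (u i) = u i)
    (hu : ∀ i j, hh (u i) (u (σ j)) = if i = j then 1 else 0) (hcard : Fintype.card ι < 6) :
    ∃ w, φ w = w ∧ (∀ i, hh w (u i) = 0) ∧ w ≠ 0 ∧
      ∃ f, φ f = f ∧ (∀ i, hh f (u i) = 0) ∧ hh f w = 1 ∧ hh w f = 1 := by
  classical
  set p : (Fin 6 → K) → Fin 6 → K := fun v => v + ∑ i, hh v (u (σ i)) • u i with hp
  have hphi0 : ∀ s : Finset ι, ∀ c : ι → K, (∀ i, c i ^ 2 = c i) →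
      φ (∑ i ∈ s, c i • u i) = ∑ i ∈ s, c i • u i := by
    intro s c hc
    induction s using Finset.induction with
    | empty => simp [H73.TT.U6.phi, ← Pi.zero_def]
    | insert a t hat ih =>
      rw [Finset.sum_insert hat, H73.TT.U6.phi_add, ih, H73.TT.U6.phi_smul, hc, hfix]
  have hpfix : ∀ v, φ v = v → φ (p v) = p v := by
    intro v hv
    rw [hp]
    simp only
    rw [H73.TT.U6.phi_add, hv, hphi0 _ _ fun i => ?_]
    rcases H73.TT.U6.h_fixed hK hv (hfix (σ i)) with h | h <;> simp [h]
  have hporth : ∀ v i, hh (p v) (u i) = 0 := by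
    intro v i
    obtain ⟨j, rfl⟩ := σ.surjective i
    simp only [hp, h_add_left, h_sum_left, h_smul_left, hu]
    simp [add_self]
  obtain ⟨v, hv, hv0⟩ : ∃ v, φ v = v ∧ p v ≠ 0 := by
    by_contra hc
    push Not at hc
    have htop : (⊤ : Submodule K (Fin 6 → K)) ≤ Submodule.span K (Set.range u) := by
      rw [← H73.TT.U6.span_fixed hK hA, Submodule.span_le]
      intro v hv
      have := hc v hv
      rw [hp] at this
      rw [SetLike.mem_coe, eq_neg_of_add_eq_zero_left this]
      exact neg_mem (Submodule.sum_mem _ fun i _ => Submodule.smul_mem _ _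
        (Submodule.subset_span ⟨i, rfl⟩))
    have h1 := Submodule.finrank_mono htop
    rw [finrank_top, Module.finrank_pi, Fintype.card_fin] at h1
    have h2 : Module.finrank K (Submodule.span K (Set.range u)) ≤ Fintype.card ι :=
      finrank_range_le_card u
    omega
  refine ⟨p v, hpfix v hv, hporth v, hv0, ?_⟩
  set w := p v
  obtain ⟨f, hf, hfw⟩ : ∃ f, φ f = f ∧ hh f w ≠ 0 := by
    by_contra hc
    push Not at hc
    refine hv0 (eq_zero_of_h_right hK fun y => ?_)
    have hy : y ∈ Submodule.span K {x | φ x = x} := by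
      rw [H73.TT.U6.span_fixed hK hA]; trivial
    induction hy using Submodule.span_induction with
    | mem x hx => exact hc x hx
    | zero => exact h_zero_left _
    | add x y _ _ hx hy => rw [h_add_left, hx, hy, add_zero]
    | smul c x _ hx => rw [h_smul_left, hx, mul_zero]
  have h1 := (H73.TT.U6.h_fixed hK hf (hpfix v hv)).resolve_left hfw
  have h2 : hh (p f) w = 1 := by
    simp only [hp, h_add_left, h_sum_left, h_smul_left]
    rw [h1, Finset.sum_eq_zero, add_zero]
    intro i _
    rw [(h_eq_zero_comm hK).1 (hporth v i), mul_zero]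
  exact ⟨p f, hpfix f hf, hporth f, h2, by rw [h_symm hK (p f) w, h2, one_pow]⟩

/-- Adjoining a fixed vector to an orthonormal fixed family. -/
theorem cons_orthonormal {k : ℕ} {u : Fin k → Fin 6 → K} (hfix : ∀ i, φ (u i) = u i)
    (hu : ∀ i j, hh (u i) (u j) = if i = j then 1 else 0) {x : Fin 6 → K} (hx : φ x = x)
    (hxx : hh x x = 1) (hxo : ∀ i, hh x (u i) = 0) :
    (∀ i, φ ((Fin.cons x u : Fin (k + 1) → Fin 6 → K) i) = (Fin.cons x u : Fin (k + 1) → Fin 6 → K) i) ∧
      ∀ i j, hh ((Fin.cons x u : Fin (k + 1) → Fin 6 → K) i)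
        ((Fin.cons x u : Fin (k + 1) → Fin 6 → K) j) = if i = j then 1 else 0 := by
  refine ⟨fun i => ?_, fun i j => ?_⟩
  · induction i using Fin.cases with
    | zero => simpa using hx
    | succ i => simpa using hfix i
  · induction i using Fin.cases with
    | zero =>
      induction j using Fin.cases with
      | zero => simpa using hxx
      | succ j => simpa [(Fin.succ_ne_zero j).symm] using hxo j
    | succ i =>
      induction j using Fin.cases with
      | zero => simpa using (h_eq_zero_comm hK).1 (hxo i)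
      | succ j => simpa using hu i j

/-- An orthonormal fixed basis, when some fixed vector is anisotropic. -/
theorem exists_orthonormal (hA : (guMat A)ᵀ = guMat A) {u0 : Fin 6 → K} (hu0 : φ u0 = u0)
    (hn0 : hh u0 u0 = 1) : ∃ u : Fin 6 → Fin 6 → K, (∀ i, φ (u i) = u i) ∧
      ∀ i j, hh (u i) (u j) = if i = j then 1 else 0 := by
  classical
  have key : ∀ d, d ≤ 5 → ∃ k, d + 1 ≤ k ∧ ∃ u : Fin k → Fin 6 → K, (∀ i, φ (u i) = u i) ∧
      ∀ i j, hh (u i) (u j) = if i = j then 1 else 0 := by
    intro d hd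
    induction d with
    | zero => exact ⟨1, le_rfl, fun _ => u0, fun _ => hu0, fun i j => by
        rw [Subsingleton.elim i j, hn0, if_pos rfl]⟩
    | succ d ih =>
      obtain ⟨k, hk, u, hfix, hu⟩ := ih (by omega)
      by_cases hk2 : d + 2 ≤ k
      · exact ⟨k, hk2, u, hfix, hu⟩
      obtain rfl : k = d + 1 := by omega
      obtain ⟨w, hw, hwo, hw0, f, hf, hfo, hfw, hwf⟩ :=
        exists_comp hA u 1 hfix (by simpa using hu) (by simp; omega)
      rcases H73.TT.U6.h_fixed hK hw hw with hww | hww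
      swap
      · exact ⟨_, le_rfl, _, cons_orthonormal hfix hu hw hww hwo⟩
      rcases H73.TT.U6.h_fixed hK hf hf with hff | hff
      swap
      · exact ⟨_, le_rfl, _, cons_orthonormal hfix hu hf hff hfo⟩
      have h00 : hh (u 0) (u 0) = 1 := by rw [hu, if_pos rfl]
      have hw' : hh (u 0) w = 0 := (h_eq_zero_comm hK).1 (hwo 0)
      have hf' : hh (u 0) f = 0 := (h_eq_zero_comm hK).1 (hfo 0)
      have hne : ∀ i : Fin d, hh (u 0) (u i.succ) = 0 := fun i => by
        rw [hu, if_neg (Fin.succ_ne_zero i).symm]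
      have c1 := cons_orthonormal (A := A) (u := Fin.tail u) (fun i => hfix _)
        (fun i j => (hu _ _).trans (if_congr Fin.succ_inj rfl rfl))
        (x := u 0 + w + f) (by rw [H73.TT.U6.phi_add, H73.TT.U6.phi_add, hfix, hw, hf])
        (by simp [h_add_left, h_add_right hK, h00, hw', hf', hwo, hfo, hww, hff, hfw, hwf, add_self])
        (fun i => by simp [Fin.tail, h_add_left, hne, hwo, hfo])
      have c2 := cons_orthonormal c1.1 c1.2
        (x := u 0 + f) (by rw [H73.TT.U6.phi_add, hfix, hf])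
        (by simp [h_add_left, h_add_right hK, h00, hf', hfo, hff])
        (fun i => by
          induction i using Fin.cases with
          | zero => simp [h_add_left, h_add_right hK, h00, hw', hf', hwo, hfo, hff, hfw, add_self]
          | succ i => simp [Fin.tail, h_add_left, hne, hfo])
      have c3 := cons_orthonormal c2.1 c2.2
        (x := u 0 + w) (by rw [H73.TT.U6.phi_add, hfix, hw])
        (by simp [h_add_left, h_add_right hK, h00, hw', hwo, hww])
        (fun i => by
          induction i using Fin.cases with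
          | zero => simp [h_add_left, h_add_right hK, h00, hw', hf', hwo, hwf, add_self]
          | succ i =>
            induction i using Fin.cases with
            | zero =>
              rw [Fin.cons_succ, Fin.cons_zero]
              simp [h_add_left, h_add_right hK, h00, hw', hf', hwo, hww, hwf, add_self]
            | succ i =>
              rw [Fin.cons_succ, Fin.cons_succ]
              simp [Fin.tail, h_add_left, hne, hwo])
      exact ⟨_, by omega, _, c3⟩
  obtain ⟨k, hk, u, hfix, hu⟩ := key 5 le_rfl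
  exact ⟨fun i => u (Fin.castLE hk i), fun i => hfix _, fun i j => by
    rw [hu]; exact if_congr (Fin.castLE_injective hk).eq_iff rfl rfl⟩

/-- Three orthogonal fixed hyperbolic pairs, when all fixed vectors are isotropic. -/
theorem exists_pairs (hA : (guMat A)ᵀ = guMat A) (h0 : ∀ x, φ x = x → hh x x = 0) :
    ∀ b ≤ 3, ∃ u : Fin b × Bool → Fin 6 → K, (∀ i, φ (u i) = u i) ∧
      ∀ i j, hh (u i) (u (j.1, !j.2)) = if i = j then 1 else 0 := by
  classical
  intro b hb
  induction b with
  | zero => exact ⟨fun i => i.1.elim0, fun i => i.1.elim0, fun i => i.1.elim0⟩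
  | succ b ih =>
    obtain ⟨u, hfix, hu⟩ := ih (by omega)
    obtain ⟨w, hw, hwo, -, f, hf, hfo, hfw, hwf⟩ := exists_comp hA u
      ((Equiv.refl (Fin b)).prodCongr Equiv.boolNot) hfix hu (by simp; omega)
    have hwo' : ∀ i, hh (u i) w = 0 := fun i => (h_eq_zero_comm hK).1 (hwo i)
    have hfo' : ∀ i, hh (u i) f = 0 := fun i => (h_eq_zero_comm hK).1 (hfo i)
    refine ⟨fun i => Fin.cases (if i.2 then f else w) (fun j => u (j, i.2)) i.1, ?_, ?_⟩
    · rintro ⟨i, c⟩
      induction i using Fin.cases with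
      | zero => cases c <;> simpa
      | succ i => simpa using hfix _
    · rintro ⟨i, c⟩ ⟨j, c'⟩
      induction i using Fin.cases with
      | zero =>
        induction j using Fin.cases with
        | zero => cases c <;> cases c' <;> simp [h0 w hw, h0 f hf, hfw, hwf]
        | succ j => cases c <;> simp [hwo, hfo, Fin.ext_iff]
      | succ i =>
        induction j using Fin.cases with
        | zero => cases c' <;> simp [hwo', hfo', Fin.ext_iff]
        | succ j =>
          have := hu (i, c) (j, c')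
          simpa [Prod.ext_iff] using this

/-- An orthonormal family permuted by the semilinear map gives a normal form. -/
theorem exists_form (π : Equiv.Perm (Fin 6)) (w : Fin 6 → Fin 6 → K)
    (hw : ∀ i j, hh (w i) (w j) = if i = j then 1 else 0) (hphi : ∀ i, φ (w i) = w (π i)) :
    ∃ g : GU 6 K 2, (conjPu A * fieldPu (qEquiv hK) : MulAut (PSU 6 K 2)) =
      conjPu g * (fieldPu (qEquiv hK) * MulAut.conj (umk (P π))) * (conjPu g)⁻¹ := by
  classical
  set M : Matrix (Fin 6) (Fin 6) K := Matrix.of fun r c => w c r with hM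
  have hMv : ∀ x, M *ᵥ x = ∑ i, x i • w i := fun x => by
    funext r
    simp [hM, Matrix.mulVec, dotProduct, mul_comm]
  have hiso : H50.IsIso 2 M := fun u v => by
    rw [hMv, hMv]
    simp only [h_sum_left, h_sum_right hK, h_smul_left, h_smul_right hK, hw, mul_ite, mul_one,
      mul_zero]
    simp [hermForm, mul_comm]
  set g := mkGU hK M hiso with hg
  refine ⟨g, ?_⟩
  have hgM : guMat g = M := rfl
  set q := qEquiv (F := K) (q := 2) hK with hq
  have hkey : guMat A * (guMat g).map q = guMat g * suMat (P π) := by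
    refine Matrix.ext_of_mulVec_single fun c => ?_
    rw [← mulVec_mulVec, ← mulVec_mulVec, hgM]
    have e1 : (M.map q) *ᵥ Pi.single c 1 = fun r => q (w c r) := by
      funext r
      simp [hM, Matrix.mulVec_single]
    have e2 : suMat (P π) *ᵥ Pi.single c 1 = Pi.single (π c) 1 := by
      funext r
      rw [P_apply, Pi.single_apply, Pi.single_apply]
      exact if_congr (Equiv.symm_apply_eq π) rfl rfl
    rw [e1, e2]
    have e3 : M *ᵥ Pi.single (π c) 1 = w (π c) := by
      funext r
      simp [hM, Matrix.mulVec_single]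
    rw [e3, ← hphi c]
    rfl
  have hPq : (suMat (P π)).map q = suMat (P π) := by
    change ((1 : Matrix (Fin 6) (Fin 6) K).submatrix π.symm id).map q =
      (1 : Matrix (Fin 6) (Fin 6) K).submatrix π.symm id
    rw [← submatrix_map, Matrix.map_one _ (map_zero q) (map_one q)]
  have hPq' : (suMat (P π)⁻¹).map q = suMat (P π)⁻¹ := by
    have hi : (P π)⁻¹ = P π⁻¹ := inv_eq_of_mul_eq_one_right (by rw [← P_mul, mul_inv_cancel, P_one])
    rw [hi]
    change ((1 : Matrix (Fin 6) (Fin 6) K).submatrix (π⁻¹).symm id).map q =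
      (1 : Matrix (Fin 6) (Fin 6) K).submatrix (π⁻¹).symm id
    rw [← submatrix_map, Matrix.map_one _ (map_zero q) (map_one q)]
  have hgg : (guMat g).map q * (guMat g⁻¹).map q = 1 := by
    rw [← Matrix.map_mul, guMat_mul_inv, Matrix.map_one _ (map_zero q) (map_one q)]
  have hPP : suMat (P π) * suMat (P π)⁻¹ = 1 := by rw [← suMat_mul, mul_inv_cancel, suMat_one]
  have hA1 : guMat A = guMat g * suMat (P π) * (guMat g⁻¹).map q := by
    rw [← hkey, Matrix.mul_assoc, hgg, Matrix.mul_one]
  have hA2 : guMat A⁻¹ = (guMat g).map q * suMat (P π)⁻¹ * guMat g⁻¹ := by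
    calc guMat A⁻¹ = guMat A⁻¹ * (guMat g * (suMat (P π) * suMat (P π)⁻¹) * guMat g⁻¹) := by
          rw [hPP, Matrix.mul_one, guMat_mul_inv, Matrix.mul_one]
      _ = guMat A⁻¹ * (guMat A * (guMat g).map q) * suMat (P π)⁻¹ * guMat g⁻¹ := by
          rw [hkey]; simp only [Matrix.mul_assoc]
      _ = _ := by
          rw [← Matrix.mul_assoc (guMat A⁻¹), guMat_inv_mul, Matrix.one_mul]
  refine MulEquiv.ext fun x => ?_
  obtain ⟨s, rfl⟩ := umk_surjective x
  rw [MulAut.mul_apply, MulAut.mul_apply, MulAut.mul_apply, MulAut.mul_apply, fieldPu_umk,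
    conjPu_umk, ← map_inv conjPu g, conjPu_umk, MulAut.conj_apply, ← map_inv, ← map_mul, ← map_mul,
    fieldPu_umk, conjPu_umk]
  refine congrArg umk (SU_ext ?_)
  show guMat A * (suMat s).map q * guMat A⁻¹ = guMat g *
    (suMat (P π * conjU g⁻¹ s * (P π)⁻¹)).map q * guMat g⁻¹
  rw [suMat_mul, suMat_mul, show suMat (conjU g⁻¹ s) = guMat g⁻¹ * suMat s * guMat g⁻¹⁻¹ from rfl,
    inv_inv]
  simp only [Matrix.map_mul, hPq, hPq', hA1, hA2, Matrix.mul_assoc]

/-- outer involutory automorphisms up to diagonal automorphisms -/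
theorem outer_normal_form (θ : MulAut (PSU 6 K 2)) (hθ : θ * θ = 1)
    (hout : ∀ s : PSU 6 K 2, θ ≠ MulAut.conj s) :
    ∃ g : GU 6 K 2, ∃ π ∈ [(1 : Equiv.Perm (Fin 6)),
        Equiv.swap (0 : Fin 6) 1 * Equiv.swap 2 3 * Equiv.swap 4 5],
      θ = conjPu g * (fieldPu (qEquiv hK) * MulAut.conj (umk (P π))) * (conjPu g)⁻¹ := by
  classical
  haveI := H73.TT.U6.charTwo hK
  obtain ⟨A, τ, rfl⟩ := exists_decomp hK (by norm_num) (by norm_num) θ
  rcases H73.TT.U6.ringAut_cases hK τ with rfl | rfl
  · exfalso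
    have h1 : (fieldPu (RingEquiv.refl K) : MulAut (PSU 6 K 2)) = 1 :=
      map_one (fieldPu (n := 6) (F := K) (q := 2))
    rw [h1, mul_one] at hθ hout
    obtain ⟨s, hs⟩ := H73.TT.U6.exists_inner hK A hθ
    exact hout _ hs
  have hne : (conjPu A * fieldPu (qEquiv hK) : MulAut (PSU 6 K 2)) ≠ 1 := fun h =>
    hout 1 (by rw [h, map_one])
  haveI : Fact (Nat.Prime 2) := ⟨Nat.prime_two⟩
  have hord := orderOf_eq_prime (show (conjPu A * fieldPu (qEquiv hK) : MulAut (PSU 6 K 2)) ^ 2 = 1
    by rw [pow_two]; exact hθ) hne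
  have hA : (guMat A)ᵀ = guMat A := by
    rcases (graphU_order hK (by norm_num)).1 hord with h | h
    · exact h
    · rw [h]; ext i j; exact CharTwo.neg_eq _
  by_cases hc : ∃ x, H73.TT.U6.phi hK A x = x ∧ hh x x = 1
  · obtain ⟨x, hx, hxx⟩ := hc
    obtain ⟨u, hfix, hu⟩ := exists_orthonormal hA hx hxx
    obtain ⟨g, hg⟩ := exists_form (A := A) 1 u hu (by simpa using hfix)
    exact ⟨g, 1, by simp, hg⟩
  push Not at hc
  obtain ⟨u, hfix, hu⟩ := exists_pairs hA
    (fun x hx => (H73.TT.U6.h_fixed hK hx hx).resolve_right (hc x hx)) 3 le_rfl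
  set om : K := wp 1 with hom
  have ho2 : (om ^ 2) ^ 2 = om := by rw [hom]; decide +kernel
  have hos : om + om ^ 2 = 1 := by rw [hom]; decide +kernel
  -- the vector attached to a pair and a sign
  set v : Fin 3 × Bool → Fin 6 → K := fun i =>
    (if i.2 then om else om ^ 2) • u (i.1, false) + u (i.1, true) with hv
  have hvphi : ∀ i : Fin 3 × Bool, H73.TT.U6.phi hK A (v i) = v (i.1, !i.2) := by
    rintro ⟨i, c⟩
    simp only [hv, H73.TT.U6.phi_add, H73.TT.U6.phi_smul, hfix]
    cases c <;> simp [ho2]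
  have hff : ∀ i j : Fin 3, hh (u (i, false)) (u (j, false)) = 0 ∧
      hh (u (i, true)) (u (j, true)) = 0 ∧
      hh (u (i, false)) (u (j, true)) = (if i = j then 1 else 0) ∧
      hh (u (i, true)) (u (j, false)) = (if i = j then 1 else 0) := fun i j => by
    have a1 := hu (i, false) (j, true)
    have a2 := hu (i, true) (j, false)
    have a3 := hu (i, false) (j, false)
    have a4 := hu (i, true) (j, true)
    simp at a1 a2 a3 a4
    exact ⟨a1, a2, a3, a4⟩
  have hvv : ∀ i j, hh (v i) (v j) = if i = j then 1 else 0 := by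
    rintro ⟨i, c⟩ ⟨j, c'⟩
    obtain ⟨b1, b2, b3, b4⟩ := hff i j
    simp only [hv, h_add_left, h_add_right hK, h_smul_left, h_smul_right hK, b1, b2, b3, b4]
    by_cases hij : i = j
    · subst hij
      cases c <;> cases c' <;> simp [ho2, hos, add_comm (om ^ 2) om, add_self]
    · cases c <;> cases c' <;> simp [hij]
  set ix : Fin 6 → Fin 3 × Bool :=
    ![(0, false), (0, true), (1, false), (1, true), (2, false), (2, true)] with hix
  have hinj : Function.Injective ix := by rw [hix]; decide
  have hperm : ∀ i : Fin 6, ix ((Equiv.swap (0 : Fin 6) 1 * Equiv.swap 2 3 * Equiv.swap 4 5 : Equiv.Perm (Fin 6)) i) =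
      ((ix i).1, !(ix i).2) := by rw [hix]; decide
  obtain ⟨g, hg⟩ := exists_form (A := A) (Equiv.swap (0 : Fin 6) 1 * Equiv.swap 2 3 * Equiv.swap 4 5)
    (fun i => v (ix i)) (fun i j => by rw [hvv]; exact if_congr hinj.eq_iff rfl rfl)
    (fun i => by rw [hvphi, hperm])
  exact ⟨g, _, by simp, hg⟩

end Outer

end H18.U6M
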