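/-
The involutions of the normaliser of the elementary abelian subgroup of order `2 ^ 20`.
-/
import Cfsg.Agent.H61.U6M.Setup
import Cfsg.Agent.H61.U6M.Inv
import Cfsg.Agent.H61.U6M.Gen
import Cfsg.Agent.H61.U6M.Orb
import Cfsg.Agent.H18.S3338.Forms

set_option autoImplicit false
set_option linter.unusedSectionVars false

open Matrix Cfsg H50 H55.Psu H61.U6M

namespace H18.U6M

/-- The permutation of the involution with bad cosets. -/
def pib : Equiv.Perm (Fin 6) := Equiv.swap 0 1 * Equiv.swap 2 3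

/-- The permutation with three transpositions. -/
def pic : Equiv.Perm (Fin 6) := Equiv.swap 0 1 * Equiv.swap 2 3 * Equiv.swap 4 5

theorem elG_one : elG [] = P (1 : Equiv.Perm (Fin 6)) := P_one.symm

theorem elG_a : elG [0] = P (Equiv.swap (0 : Fin 6) 1) := by
  show gel 0 * 1 = _
  rw [mul_one]; rfl

theorem elG_b : elG [0, 2] = P pib := by
  show gel 0 * (gel 2 * 1) = _
  rw [mul_one, pib, P_mul]; rfl

theorem elG_c : elG [0, 2, 4] = P pic := by
  show gel 0 * (gel 2 * (gel 4 * 1)) = _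
  rw [mul_one, pic, P_mul, P_mul, mul_assoc]; rfl

theorem pi_sq : (Equiv.swap (0 : Fin 6) 1) * Equiv.swap 0 1 = 1 ∧ pib * pib = 1 ∧ pic * pic = 1 := by
  decide +kernel

theorem P_inv (π : Equiv.Perm (Fin 6)) : (P π)⁻¹ = P π⁻¹ :=
  inv_eq_of_mul_eq_one_right (by rw [← P_mul, mul_inv_cancel, P_one])

theorem fieldU_P (σ : Equiv.Perm (Fin 6)) : fieldU (qEquiv hK) (P σ) = P σ := by
  refine SU_ext ?_
  show ((1 : Matrix (Fin 6) (Fin 6) K).submatrix σ.symm id).map (qEquiv hK) =
    (1 : Matrix (Fin 6) (Fin 6) K).submatrix σ.symm id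
  rw [← submatrix_map, Matrix.map_one _ (map_zero _) (map_one _)]

theorem wp_neg : ∀ x : ZMod 3, wp x ^ 2 = wp (-x) := by decide +kernel

theorem fieldU_D (a : Cv) : fieldU (qEquiv hK) (D a) = D (-a) := by
  refine SU_ext ?_
  show (diagonal fun i => wp (H61.U6M.ext a i)).map (qEquiv hK) =
    diagonal fun i => wp (H61.U6M.ext (-a) i)
  rw [diagonal_map (map_zero _)]
  congr 1
  funext i
  rw [qEquiv_apply, wp_neg]
  congr 1
  have h : H61.U6M.ext (-a) + H61.U6M.ext a = H61.U6M.ext 0 := by rw [← ext_add, neg_add_cancel]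
  have h0 : H61.U6M.ext (0 : Cv) = 0 := by
    have h := ext_add (0 : Cv) 0
    rw [add_zero] at h
    exact left_eq_add.1 h
  rw [h0] at h
  exact (eq_neg_of_add_eq_zero_left (congrFun h i)).symm

/-- Every element of `SU` agrees with a unitary matrix of determinant one modulo the commutant. -/
theorem exists_inner_conj (g : GU 6 K 2) :
    ∃ s : SU 6 K 2, (conjPu g : MulAut (PSU 6 K 2)) (umk (P pib)) =
      umk s * umk (P pib) * (umk s)⁻¹ := by
  set d : K := (guMat g).det with hd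
  have hd3 : d * d ^ 2 = 1 := by
    have h := (GU_isIso g).det_norm hK
    linear_combination h
  have hd0 : d ≠ 0 := fun h => by rw [h, zero_mul] at hd3; exact zero_ne_one hd3
  set Z : Matrix (Fin 6) (Fin 6) K := diagonal fun i => if i = 4 then d ^ 2 else 1 with hZ
  have hZi : H50.IsIso 2 Z := fun u v => by
    simp only [hZ, hermForm, mulVec_diagonal]
    refine Finset.sum_congr rfl fun i _ => ?_
    split
    · linear_combination (u i * v i ^ 2) * (d * d ^ 2 + 1) * hd3
    · ring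
  set z := mkGU hK Z hZi with hz
  have hdet : (guMat (g * z)).det = 1 := by
    show (guMat g * Z).det = 1
    rw [det_mul, hZ, det_diagonal, Fin.prod_univ_six]
    simp only [Fin.reduceEq, if_false, if_true, one_mul, mul_one]
    exact hd3
  set s := mkSU (guMat (g * z)) (GU_isIso _) hdet with hs
  refine ⟨s, ?_⟩
  have hcomm : guMat z * suMat (P pib) = suMat (P pib) * guMat z := by
    refine Matrix.ext_of_mulVec_single fun c => ?_
    show (Z * suMat (P pib)) *ᵥ _ = (suMat (P pib) * Z) *ᵥ _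
    funext i
    rw [← mulVec_mulVec, ← mulVec_mulVec, P_apply]
    simp only [hZ, mulVec_diagonal, P_apply]
    have : ∀ i : Fin 6, (i = 4 ↔ pib.symm i = 4) := by decide +kernel
    rw [← if_congr (this i) rfl rfl]
  have h1 : conjU z (P pib) = P pib := by
    refine SU_ext ?_
    show guMat z * suMat (P pib) * guMat z⁻¹ = suMat (P pib)
    rw [hcomm, Matrix.mul_assoc, guMat_mul_inv, Matrix.mul_one]
  have h2 : (conjPu (g * z) : MulAut (PSU 6 K 2)) (umk (P pib)) = conjPu g (umk (P pib)) := by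
    rw [map_mul, MulAut.mul_apply, conjPu_umk z, h1]
  rw [← h2, conjPu_umk, ← map_inv, ← map_mul, ← map_mul]
  refine congrArg umk (SU_ext ?_)
  have hinv : guMat (g * z)⁻¹ = suMat s⁻¹ := by
    have h1 : guMat (g * z)⁻¹ * guMat (g * z) = 1 := guMat_inv_mul _
    have h2 : suMat s * suMat s⁻¹ = 1 := by rw [← suMat_mul, mul_inv_cancel, suMat_one]
    calc guMat (g * z)⁻¹ = guMat (g * z)⁻¹ * (suMat s * suMat s⁻¹) := by rw [h2, mul_one]
      _ = (guMat (g * z)⁻¹ * guMat (g * z)) * suMat s⁻¹ := (Matrix.mul_assoc _ _ _).symm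
      _ = _ := by rw [h1, one_mul]
  show guMat (g * z) * suMat (P pib) * guMat (g * z)⁻¹ = suMat (s * P pib * s⁻¹)
  rw [suMat_mul, suMat_mul, hinv]
  rfl

variable {X : Type*} [Group X] [Finite X] {A H : Subgroup X} [IsMulCommutative A] (S : Sit A H)

/-- The vector of an element of `A`. -/
abbrev vec {a : X} (ha : a ∈ A) : Additive ↥A := Additive.ofMul ⟨a, ha⟩

theorem conjV_eq_self {k : X} (hk : k ∈ H) (v : Additive ↥A) :
    S.conjV k hk v = v ↔ k * (Additive.toMul v : ↥A).1 * k⁻¹ = (Additive.toMul v : ↥A).1 :=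
  ⟨fun h => by rw [← S.conjV_coe k hk, h],
    fun h => Additive.toMul.injective (Subtype.ext ((S.conjV_coe k hk v).trans h))⟩

theorem a_inv {a : X} (ha : a ∈ A) (S : Sit A H) : a⁻¹ = a :=
  inv_eq_of_mul_eq_one_right (by have := S.elem.2 _ ha; rwa [pow_two] at this)

theorem a_comm {a b : X} (ha : a ∈ A) (hb : b ∈ A) : a * b = b * a :=
  congrArg Subtype.val (IsMulCommutative.is_comm.comm (⟨a, ha⟩ : ↥A) ⟨b, hb⟩)

/-- An element of the ambient group commuting with the conjugation commutes with `k`. -/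
theorem el_comm {k : X} (hk : k ∈ S.L) (g : SU 6 K 2)
    (hc : ∀ u, S.ctx.act g (S.conjV k (S.le_H hk) u) = S.conjV k (S.le_H hk) (S.ctx.act g u)) :
    S.el g * k = k * S.el g := by
  set u := S.el g with hu
  have hmem : u * k * u⁻¹ * k⁻¹ ∈ S.L :=
    mul_mem (mul_mem (mul_mem (S.mem _) hk) (inv_mem (S.mem _))) (inv_mem hk)
  have h := S.centL hmem fun a ha => by
    set b := k⁻¹ * a * k with hb
    have hbA : b ∈ A := by
      have := S.conj_mem (inv_mem (S.le_H hk)) ha
      simpa using this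
    set b' := u⁻¹ * b * u with hb'
    have hb'A : b' ∈ A := by
      have := S.conj_mem (inv_mem (S.el_memH g)) hbA
      simpa using this
    have := congrArg (fun v => (Additive.toMul v : ↥A).1) (hc (vec hb'A))
    simp only [S.ctx_act, S.conjV_coe] at this
    change u * (k * b' * k⁻¹) * u⁻¹ = k * (u * b' * u⁻¹) * k⁻¹ at this
    have e : k * (u * b' * u⁻¹) * k⁻¹ = a := by rw [hb', hb]; group
    rw [e, hb', hb] at this
    refine (mul_inv_eq_iff_eq_mul).1 ?_
    conv_rhs => rw [← this]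
    group
  calc u * k = u * k * u⁻¹ * k⁻¹ * (k * u) := by group
    _ = k * u := by rw [h, one_mul]

/-- A good coset gives a commuting element of order three. -/
theorem three_of_good {a k : X} (ha : a ∈ A) (hk : k ∈ S.L) {y : Additive ↥A}
    (h : S.ctx.GoodFix (S.conjV k (S.le_H hk)) (vec ha + (y + S.conjV k (S.le_H hk) y))) :
    ∃ u ∈ H, orderOf u = 3 ∧ u * (a * k) = a * k * u := by
  obtain ⟨g, h3, ⟨w, hw⟩, hc, hfix⟩ := h
  haveI : Fact (Nat.Prime 3) := ⟨by norm_num⟩
  set y' : X := (Additive.toMul y : ↥A).1 with hy'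
  have hyA : y' ∈ A := (Additive.toMul y : ↥A).2
  set u := S.el g with hu
  have huk : u * k = k * u := el_comm S hk g hc
  have hu3 : u ^ 3 = 1 := by
    refine S.centL (pow_mem (S.mem _) 3) fun b hb => ?_
    have := congrArg (fun v => (Additive.toMul v : ↥A).1) (h3 (vec hb))
    simp only [S.ctx_act] at this
    change u * (u * (u * b * u⁻¹) * u⁻¹) * u⁻¹ = b at this
    refine mul_inv_eq_iff_eq_mul.1 ?_
    rw [← show u * (u * (u * b * u⁻¹) * u⁻¹) * u⁻¹ = u ^ 3 * b * (u ^ 3)⁻¹ by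
      rw [pow_succ, pow_two]; group, this]
  have hu1 : u ≠ 1 := fun e => hw (Additive.toMul.injective (Subtype.ext (by
    rw [S.ctx_act, ← hu, e, one_mul, inv_one, mul_one])))
  have hz : u * (a * (y' * (k * y' * k⁻¹))) * u⁻¹ = a * (y' * (k * y' * k⁻¹)) :=
    congrArg (fun v => (Additive.toMul v : ↥A).1) hfix
  have hconj : a * (y' * (k * y' * k⁻¹)) * k = y' * (a * k) * y'⁻¹ := by
    rw [← mul_assoc a y', a_comm ha hyA, a_inv hyA S]; group
  have hcz : u * (y' * (a * k) * y'⁻¹) = y' * (a * k) * y'⁻¹ * u := by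
    rw [← hconj, ← mul_assoc, mul_inv_eq_iff_eq_mul.1 hz, mul_assoc, huk]
    simp only [mul_assoc]
  refine ⟨y'⁻¹ * u * y', mul_mem (mul_mem (inv_mem (S.le hyA)) (S.el_memH g)) (S.le hyA), ?_, ?_⟩
  · have hconj' : orderOf (y'⁻¹ * u * y') = orderOf u := by
      conv_rhs => rw [← show (MulAut.conj y') (y'⁻¹ * u * y') = u by
        rw [MulAut.conj_apply]; group]
      exact (MulEquiv.orderOf_eq (MulAut.conj y') _).symm
    rw [hconj']
    exact orderOf_eq_prime hu3 hu1
  · calc y'⁻¹ * u * y' * (a * k) = y'⁻¹ * (u * (y' * (a * k) * y'⁻¹)) * y' := by group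
      _ = _ := by rw [hcz]; group

/-- The conjugation by an involution of the complement, seen through a twist. -/
theorem tau_eq {d : IData} {k : X} (hk : k ∈ S.L) (w : List (Fin 8))
    (hw : ∀ x, S.conjV k (S.le_H hk) (S.ctx.Φ x) = S.ctx.Φ (runW w x))
    (hd : ∀ i < 20, app d.T (2 ^ i) = runW w (2 ^ i)) (x : ℕ) (hx : x < 2 ^ 20) :
    S.conjV k (S.le_H hk) (S.ctx.Φ x) = S.ctx.Φ (app d.T x) := by
  rw [hw]
  exact congrArg _ (lin_ext (f := fun x => runW w x) (g := app d.T) (runW_xor w) (app_xor _) 20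
    (fun i hi => (hd i hi).symm) x hx)

theorem inner_tau {k : X} (hk : k ∈ S.L) (w : List (Fin 8)) (π : Equiv.Perm (Fin 6))
    (he : k = S.el (P π)) (hw : elG w = P π) (x : ℕ) :
    S.conjV k (S.le_H hk) (S.ctx.Φ x) = S.ctx.Φ (runW w x) := by
  rw [← S.ctx.Phi_run, hw]
  refine Additive.toMul.injective (Subtype.ext ?_)
  rw [S.conjV_coe, S.ctx_act, he]

theorem outer_tau {k : X} (hk : k ∈ S.L) (h2 : k * k = 1) (π : Equiv.Perm (Fin 6)) (hπ : π * π = 1)
    (w : List (Fin 8)) (hw : elG w = P π)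
    (hθ : ∀ g, k * S.el g * k⁻¹ = S.el (fieldU (qEquiv hK) (P π * g * (P π)⁻¹))) (x : ℕ) :
    S.conjV k (S.le_H hk) (S.ctx.Φ x) = S.ctx.Φ (app colSig (runW w x)) := by
  have hPP : P π * P π = 1 := by rw [← P_mul, hπ, P_one]
  have hPi : (P π)⁻¹ = P π := inv_eq_of_mul_eq_one_right hPP
  set m := k * S.el (P π) with hm
  have hmL : m ∈ S.L := mul_mem hk (S.mem _)
  have hel : S.el (P π) * S.el (P π) = 1 := by rw [← S.el_mul, hPP, Sit.el, QuotientGroup.mk_one, map_one]
  have hkel : ∀ g, k * S.el g = S.el (fieldU (qEquiv hK) (P π * g * P π)) * k := fun g => by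
    have := hθ g
    rw [hPi] at this
    exact mul_inv_eq_iff_eq_mul.1 this
  have hmg : ∀ g, m * S.el g = S.el (fieldU (qEquiv hK) g) * m := fun g => by
    rw [hm, mul_assoc, ← S.el_mul, hkel, ← mul_assoc (P π) (P π), hPP, one_mul, map_mul, fieldU_P,
      S.el_mul, mul_assoc, show S.el (P π) * k = k * S.el (P π) by
        rw [hkel, hPP, one_mul, fieldU_P]]
  have hm2 : m * m = 1 := by
    calc m * m = k * S.el (P π) * k * S.el (P π) := by rw [hm]; group
      _ = k * k * (S.el (P π) * S.el (P π)) := by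
          rw [mul_assoc k (S.el (P π)), show S.el (P π) * k = k * S.el (P π) by
            rw [hkel, hPP, one_mul, fieldU_P]]
          group
      _ = 1 := by rw [h2, hel, one_mul]
  set τ0 := S.conjV m (S.le_H hmL) with hτ0
  have hinv : ∀ v, τ0 (τ0 v) = v := fun v => by
    refine Additive.toMul.injective (Subtype.ext ?_)
    simp only [hτ0, S.conjV_coe]
    calc m * (m * (Additive.toMul v : ↥A).1 * m⁻¹) * m⁻¹
        = m * m * (Additive.toMul v : ↥A).1 * (m * m)⁻¹ := by group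
      _ = _ := by rw [hm2, one_mul, inv_one, mul_one]
  have hact : ∀ g v, τ0 (S.ctx.act g v) = S.ctx.act (fieldU (qEquiv hK) g) (τ0 v) := fun g v => by
    refine Additive.toMul.injective (Subtype.ext ?_)
    simp only [hτ0, S.conjV_coe, S.ctx_act]
    calc m * (S.el g * (Additive.toMul v : ↥A).1 * (S.el g)⁻¹) * m⁻¹
        = m * S.el g * (Additive.toMul v : ↥A).1 * (m * S.el g)⁻¹ := by group
      _ = _ := by rw [hmg]; group
  have hcols := S.ctx.sig_cols (τ := τ0) hinv
    (fun σ v => by rw [Ctx.T, hact, fieldU_P])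
    (fun a v => by rw [Ctx.R, Ctx.R, hact, fieldU_D])
  rw [← hcols, ← S.ctx.Phi_run, hw]
  refine Additive.toMul.injective (Subtype.ext ?_)
  simp only [hτ0, S.conjV_coe, S.ctx_act, hm]
  calc k * (Additive.toMul (S.ctx.Φ x) : ↥A).1 * k⁻¹
      = k * (S.el (P π) * S.el (P π)) * (Additive.toMul (S.ctx.Φ x) : ↥A).1 *
          (S.el (P π) * S.el (P π))⁻¹ * k⁻¹ := by rw [hel]; group
    _ = _ := by group

/-- An involution of the complement is one of five known ones. -/
theorem k_cases {k : X} (hk : k ∈ S.L) (h2 : k * k = 1) (h1 : k ≠ 1) :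
    ∃ (c : MulAut (PSU 6 K 2)) (d : IData), invOK d = true ∧
      (∀ x < 2 ^ 20, (S.twist c).conjV k ((S.twist c).le_H hk) ((S.twist c).ctx.Φ x) =
        (S.twist c).ctx.Φ (app d.T x)) ∧
      (d.bad = [] ∨ ∃ s, k = S.el s * S.el (P pib) * (S.el s)⁻¹) := by
  by_cases hin : k ∈ S.η.range
  · obtain ⟨p, rfl⟩ := hin
    have hp2 : p * p = 1 := S.inj (by rw [map_mul, h2, map_one])
    have hp1 : p ≠ 1 := fun h => h1 (by rw [h, map_one])
    obtain ⟨g, π, hπ, hp⟩ := inner_normal_form p hp2 hp1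
    have hk' : S.η p ∈ (S.twist (conjPu g)).L := hk
    have he : S.η p = (S.twist (conjPu g)).el (P π) := by rw [hp]; rfl
    simp only [List.mem_cons, List.not_mem_nil, or_false] at hπ
    rcases hπ with rfl | rfl | rfl
    · exact ⟨_, datA, datA_ok, tau_eq _ hk' [0] (inner_tau _ hk' [0] _ he elG_a) datA_T, Or.inl rfl⟩
    · refine ⟨_, datB, datB_ok,
        tau_eq _ hk' [0, 2] (inner_tau _ hk' [0, 2] _ he elG_b) datB_T, Or.inr ?_⟩
      obtain ⟨s, hs⟩ := exists_inner_conj g
      refine ⟨s, ?_⟩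
      rw [hp, show Equiv.swap (0 : Fin 6) 1 * Equiv.swap 2 3 = pib from rfl, hs, map_mul, map_mul,
        map_inv]
      rfl
    · exact ⟨_, datC, datC_ok,
        tau_eq _ hk' [0, 2, 4] (inner_tau _ hk' [0, 2, 4] _ he elG_c) datC_T, Or.inl rfl⟩
  · have hf : ∀ p, ∃ q, S.η q = k * S.η p * k⁻¹ := fun p => S.norm k hk p
    choose f hf' using hf
    have hkinv : k⁻¹ = k := inv_eq_of_mul_eq_one_right h2
    have hff : ∀ p, f (f p) = p := fun p => S.inj (by
      rw [hf', hf', hkinv]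
      calc k * (k * S.η p * k) * k = k * k * S.η p * (k * k) := by group
        _ = S.η p := by rw [h2, one_mul, mul_one])
    let θ : MulAut (PSU 6 K 2) :=
      { toFun := f
        invFun := f
        left_inv := hff
        right_inv := hff
        map_mul' := fun p q => S.inj (by rw [map_mul, hf', hf', hf', map_mul]; group) }
    have hθ2 : θ * θ = 1 := MulEquiv.ext hff
    have hout : ∀ s, θ ≠ MulAut.conj s := fun s h => by
      refine hin ⟨s, ?_⟩
      have hz := S.small ((S.η s)⁻¹ * k) (mul_mem (inv_mem (S.mem s)) hk) fun p => by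
        have e : k * S.η p * k⁻¹ = S.η s * S.η p * (S.η s)⁻¹ := by
          rw [← hf' p, show f p = θ p from rfl, h, MulAut.conj_apply, map_mul, map_mul, map_inv]
        calc (S.η s)⁻¹ * k * S.η p = (S.η s)⁻¹ * (k * S.η p * k⁻¹) * k := by group
          _ = _ := by rw [e]; group
      exact inv_mul_eq_one.1 hz
    obtain ⟨g, π, hπ, hθ⟩ := outer_normal_form θ hθ2 hout
    set c : MulAut (PSU 6 K 2) := conjPu g with hc
    have hconj : ∀ x, k * (S.twist c).el x * k⁻¹ =
        (S.twist c).el (fieldU (qEquiv hK) (P π * x * (P π)⁻¹)) := fun x => by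
      show k * S.η (c (umk x)) * k⁻¹ = S.η (c (umk _))
      rw [← hf', show f (c (umk x)) = θ (c (umk x)) from rfl, hθ, MulAut.mul_apply, MulAut.mul_apply,
        MulAut.mul_apply, MulAut.inv_apply_self, MulAut.conj_apply, ← map_inv, ← map_mul,
        ← map_mul, fieldPu_umk]
    have hk' : k ∈ (S.twist c).L := hk
    simp only [List.mem_cons, List.not_mem_nil, or_false] at hπ
    rcases hπ with rfl | rfl
    · refine ⟨c, datS, datS_ok, fun x hx => ?_, Or.inl rfl⟩
      rw [outer_tau _ hk' h2 1 (mul_one 1) [] elG_one hconj]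
      exact congrArg _ (lin_ext (f := fun x => app colSig (runW [] x)) (g := app datS.T)
        (fun a b => by simp only [runW_xor, app_xor]) (app_xor _) 20
        (fun i hi => by rw [datS_T i hi]; rfl) x hx)
    · refine ⟨c, datS3, datS3_ok, fun x hx => ?_, Or.inl rfl⟩
      rw [outer_tau _ hk' h2 pic pi_sq.2.2 [0, 2, 4] elG_c hconj]
      exact congrArg _ (lin_ext (f := fun x => app colSig (runW [0, 2, 4] x)) (g := app datS3.T)
        (fun a b => by simp only [runW_xor, app_xor]) (app_xor _) 20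
        (fun i hi => (datS3_T i hi).symm) x hx)

/-- Involutions of the complement fix at most 2 ^ 14 vectors. -/
theorem invol_bound {k : X} (hk : k ∈ S.L) (h2 : k * k = 1) (h1 : k ≠ 1) :
    Nat.card {a : ↥A // k * (a : X) * k⁻¹ = a} ≤ 2 ^ 14 := by
  obtain ⟨c, d, hd, hτ, -⟩ := k_cases S hk h2 h1
  refine le_trans (le_of_eq ?_) ((S.twist c).ctx.invSpec_of_ok hd _ hτ).bound
  exact Nat.card_congr
    { toFun := fun a => ⟨Additive.ofMul a.1, (conjV_eq_self (S.twist c) _ _).2 a.2⟩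
      invFun := fun v => ⟨Additive.toMul v.1, (conjV_eq_self (S.twist c) _ _).1 v.2⟩
      left_inv := fun a => rfl
      right_inv := fun v => rfl }

theorem ctx_twist_one : (S.twist 1).ctx = S.ctx := rfl

/-- The small orbit is invariant. -/
theorem inO_act (g : SU 6 K 2) : ∀ v : Additive ↥A, S.ctx.InO v → S.ctx.InO (S.ctx.act g v) := by
  have hg : g ∈ Subgroup.closure (Set.range gel) := by rw [closure_gel]; trivial
  induction hg using Subgroup.closure_induction with
  | mem x hx => obtain ⟨i, rfl⟩ := hx; exact fun v h => S.ctx.InO_gel i h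
  | one => intro v h; rwa [S.ctx.one]
  | mul x y _ _ hx hy => intro v h; rw [S.ctx.mul]; exact hx _ (hy _ h)
  | inv x _ hx =>
    intro v h
    have key : ∀ n : ℕ, S.ctx.InO (S.ctx.act (x ^ n) v) := by
      intro n
      induction n with
      | zero => rwa [pow_zero, S.ctx.one]
      | succ n ih => rw [pow_succ', S.ctx.mul]; exact hx _ ih
    rw [inv_eq_of_mul_eq_one_right (show x * x ^ (orderOf x - 1) = 1 by
      rw [← pow_succ', Nat.sub_add_cancel (orderOf_pos x), pow_orderOf_eq_one])]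
    exact key _

/-- Involutions of `H` outside `A`: centralised by an element of order three, or conjugate to one
base element with two shifts of different orbits. -/
theorem invol_cases : ∃ base : X, ∀ h ∈ H, h ∉ A → h * h = 1 →
    (∃ u ∈ H, orderOf u = 3 ∧ u * h = h * u) ∨
      ((∃ z ∈ H, z * base * z⁻¹ = h) ∧ ∃ a0 ∈ A, ∃ a1 ∈ A, a0 * h = h * a0 ∧ a1 * h = h * a1 ∧
        (∃ u ∈ H, orderOf u = 3 ∧ u * (h * a0) = h * a0 * u) ∧
        (∃ u ∈ H, orderOf u = 3 ∧ u * (h * a1) = h * a1 * u) ∧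
        ∃ c : MulAut (PSU 6 K 2), ∃ (b0 b1 : ↥A), (b0 : X) = a0 ∧ (b1 : X) = a1 ∧
          (S.twist c).ctx.InO (Additive.ofMul b0) ∧ ¬ (S.twist c).ctx.InO (Additive.ofMul b1)) := by
  classical
  set q : ↥A := Additive.toMul (S.ctx.Φ (app datB.Q badBase)) with hq
  set k0 := S.el (P pib) with hk0
  refine ⟨(q : X) * k0, fun h hh hA hinv => ?_⟩
  obtain ⟨a, ha, k, hk, rfl⟩ := S.exists_split hh
  have hkH := S.le_H hk
  have hmem : k * k ∈ A ⊓ S.L := by
    refine Subgroup.mem_inf.2 ⟨?_, mul_mem hk hk⟩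
    have e : k * k = (k * a * k⁻¹)⁻¹ * a⁻¹ * (a * k * (a * k)) := by group
    rw [e, hinv, mul_one]
    exact mul_mem (inv_mem (S.conj_mem hkH ha)) (inv_mem ha)
  rw [S.meet, Subgroup.mem_bot] at hmem
  have hfix : k * a * k⁻¹ = a := by
    have e : a * k * (a * k) = a * (k * a * k⁻¹) * (k * k) := by group
    rw [e, hmem, mul_one] at hinv
    exact (eq_inv_of_mul_eq_one_right hinv).trans (a_inv ha S)
  have hk1 : k ≠ 1 := fun e => hA (by rw [e, mul_one]; exact ha)
  obtain ⟨c, d, hd, hτ, hbad | ⟨s, hs⟩⟩ := k_cases S hk hmem hk1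
  · left
    obtain ⟨y, hy⟩ := (S.twist c).ctx.good_of_no_bad hd hbad _ hτ (vec ha)
      ((conjV_eq_self (S.twist c) _ _).2 hfix)
    exact three_of_good (S.twist c) ha hk hy
  set es := S.el s with hes
  have hesH : es ∈ H := S.el_memH s
  have hk0L : k0 ∈ S.L := S.mem _
  set a' := es⁻¹ * a * es with ha'
  have ha'A : a' ∈ A := by
    have := S.conj_mem (inv_mem hesH) ha
    simpa using this
  have hh' : a * k = es * (a' * k0) * es⁻¹ := by rw [hs, ha', hk0]; group
  have hfix' : k0 * a' * k0⁻¹ = a' := by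
    have e := hfix
    rw [hs] at e
    calc k0 * a' * k0⁻¹ = es⁻¹ * (es * k0 * es⁻¹ * a * (es * k0 * es⁻¹)⁻¹) * es := by
          rw [ha']; group
      _ = a' := by rw [e, ha']
  set τ := S.conjV k0 (S.le_H hk0L) with hτdef
  have hτB : ∀ x < 2 ^ 20, τ (S.ctx.Φ x) = S.ctx.Φ (app datB.T x) :=
    tau_eq S hk0L [0, 2] (inner_tau S hk0L [0, 2] pib rfl elG_b) datB_T
  have hτa : τ (vec ha'A) = vec ha'A := (conjV_eq_self S _ _).2 hfix'
  -- transport a commuting element of order three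
  have transport : ∀ x : X, (∃ u ∈ H, orderOf u = 3 ∧ u * x = x * u) →
      ∃ u ∈ H, orderOf u = 3 ∧ u * (es * x * es⁻¹) = es * x * es⁻¹ * u := by
    rintro x ⟨u, hu, ho, hc⟩
    refine ⟨es * u * es⁻¹, mul_mem (mul_mem hesH hu) (inv_mem hesH), ?_, ?_⟩
    · rw [← ho]; exact MulEquiv.orderOf_eq (MulAut.conj es) u
    · calc es * u * es⁻¹ * (es * x * es⁻¹) = es * (u * x) * es⁻¹ := by group
        _ = _ := by rw [hc]; group
  by_cases hgood : ∃ y, S.ctx.GoodFix τ (vec ha'A + (y + τ y))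
  · left
    obtain ⟨y, hy⟩ := hgood
    rw [hh']
    exact transport _ (three_of_good S ha'A hk0L hy)
  right
  rcases (S.ctx.invSpec_of_ok datB_ok τ hτB).cases _ hτa with hy |
    ⟨v0, v1, ht0, ht1, ho0, ho1, ⟨y0, hy0⟩, ⟨y1, hy1⟩⟩
  · exact absurd hy hgood
  push Not at hgood
  obtain ⟨g, hgc, y, hgy⟩ := S.ctx.badMove (τ := τ) hτB hτa hgood
  set y' : X := (Additive.toMul y : ↥A).1 with hy'
  have hyA : y' ∈ A := (Additive.toMul y : ↥A).2
  refine ⟨⟨es * y' * S.el g, mul_mem (mul_mem hesH (S.le hyA)) (S.el_memH g), ?_⟩, ?_⟩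
  · have e1 : S.el g * (q : X) * (S.el g)⁻¹ = a' * (y' * (k0 * y' * k0⁻¹)) :=
      congrArg (fun v => (Additive.toMul v : ↥A).1) hgy
    have e2 : S.el g * k0 = k0 * S.el g := el_comm S hk0L g hgc
    have e3 : S.el g * ((q : X) * k0) * (S.el g)⁻¹ = y'⁻¹ * (a' * k0) * y' := by
      calc S.el g * ((q : X) * k0) * (S.el g)⁻¹
          = S.el g * (q : X) * (S.el g)⁻¹ * (S.el g * k0 * (S.el g)⁻¹) := by group
        _ = a' * (y' * (k0 * y' * k0⁻¹)) * k0 := by rw [e1, e2]; group
        _ = _ := by rw [a_inv hyA S, ← mul_assoc a' y', a_comm ha'A hyA]; group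
    rw [hh']
    calc es * y' * S.el g * ((q : X) * k0) * (es * y' * S.el g)⁻¹
        = es * y' * (S.el g * ((q : X) * k0) * (S.el g)⁻¹) * y'⁻¹ * es⁻¹ := by group
      _ = _ := by rw [e3]; group
  set w0 : X := (Additive.toMul v0 : ↥A).1 with hw0
  set w1 : X := (Additive.toMul v1 : ↥A).1 with hw1
  have hw0A : w0 ∈ A := (Additive.toMul v0 : ↥A).2
  have hw1A : w1 ∈ A := (Additive.toMul v1 : ↥A).2
  have comm : ∀ {w : X}, w ∈ A → k0 * w * k0⁻¹ = w →
      es * w * es⁻¹ * (a * k) = a * k * (es * w * es⁻¹) := by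
    intro w hw hwf
    rw [hh']
    calc es * w * es⁻¹ * (es * (a' * k0) * es⁻¹) = es * (w * a' * k0) * es⁻¹ := by group
      _ = es * (a' * (k0 * w)) * es⁻¹ := by
          rw [a_comm hw ha'A, mul_inv_eq_iff_eq_mul.1 hwf]; group
      _ = _ := by group
  have three : ∀ {w : X} (hw : w ∈ A), k0 * w * k0⁻¹ = w → ∀ (v : Additive ↥A),
      v = vec hw → (∃ y, S.ctx.GoodFix τ (vec ha'A + v + (y + τ y))) →
      ∃ u ∈ H, orderOf u = 3 ∧
        u * (a * k * (es * w * es⁻¹)) = a * k * (es * w * es⁻¹) * u := by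
    rintro w hw hwf v rfl ⟨y, hy⟩
    have h3 := transport _ (three_of_good S (mul_mem ha'A hw) hk0L (y := y) hy)
    have e : a * k * (es * w * es⁻¹) = es * (a' * w * k0) * es⁻¹ := by
      rw [hh']
      calc es * (a' * k0) * es⁻¹ * (es * w * es⁻¹) = es * (a' * (k0 * w)) * es⁻¹ := by group
        _ = _ := by rw [mul_inv_eq_iff_eq_mul.1 hwf]; group
    rw [e]
    exact h3
  have f0 := (conjV_eq_self S _ _).1 ht0
  have f1 := (conjV_eq_self S _ _).1 ht1
  refine ⟨es * w0 * es⁻¹, S.conj_mem hesH hw0A, es * w1 * es⁻¹, S.conj_mem hesH hw1A,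
    comm hw0A f0, comm hw1A f1, three hw0A f0 v0 rfl ⟨y0, hy0⟩, three hw1A f1 v1 rfl ⟨y1, hy1⟩,
    1, ⟨_, S.conj_mem hesH hw0A⟩, ⟨_, S.conj_mem hesH hw1A⟩, rfl, rfl, ?_, ?_⟩
  · rw [ctx_twist_one]
    exact inO_act S s _ ho0
  · rw [ctx_twist_one]
    intro hin
    refine ho1 ?_
    have := inO_act S s⁻¹ _ hin
    rwa [show (Additive.ofMul (⟨es * w1 * es⁻¹, S.conj_mem hesH hw1A⟩ : ↥A) : Additive ↥A) =
      S.ctx.act s v1 from rfl, ← S.ctx.mul, inv_mul_cancel, S.ctx.one] at this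

end H18.U6M
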